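import Groth.Agent.H15Site.ToposFin.Eps

/-!
# Algebraic topoi, inverse image functors and quasi-separatedness
-/

set_option autoImplicit false

universe u

open CategoryTheory CategoryTheory.Limits Opposite

namespace Groth.Agent.H15Site.TFin

open ToposFin

namespace Alg
variable {C : Type u} [SmallCategory C] {J : GrothendieckTopology C}

lemma isQS_subprod {S : Set (Sh J)} (hqc : ∀ K ∈ S, IsQC K) (hgen : IsGenerating S)
    (hpb : ClosedUnderPullbacks S) (heq : ClosedUnderEqualizers S)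
    {K L P : Sh J} (hK : K ∈ S) (hL : L ∈ S) (a : P ⟶ K) (b : P ⟶ L)
    (hinj : ∀ ⦃T : Sh J⦄ (x y : T ⟶ P), x ≫ a = y ≫ a → x ≫ b = y ≫ b → x = y) : IsQS P := by
  refine isQS_of_gen (isGenerating_iff.1 hgen) fun M c => isQCHom_of_cover c fun T d hT => ?_
  obtain ⟨ι, F, π, hF, hπ⟩ := exists_cover_mem hgen T
  obtain ⟨s, hs⟩ := isQC_iff.1 hT _ _ _ hπ
  refine ⟨s, inferInstance, _, _, hs, fun k => ?_⟩
  obtain ⟨R, p, q, hR, sq⟩ := hpb (c ≫ a) ((π k.1 ≫ d) ≫ a) M.2 (hF k.1) hK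
  obtain ⟨E, e, w, hE, ⟨hlim⟩⟩ := heq (p ≫ c ≫ b) (q ≫ (π k.1 ≫ d) ≫ b) hR hL
  have hsq : IsPullback (e ≫ p) (e ≫ q) c (π k.1 ≫ d) := by
    have hw : (e ≫ p) ≫ c = (e ≫ q) ≫ π k.1 ≫ d := by
      apply hinj
      · have := congrArg (e ≫ ·) sq.w
        simpa [Category.assoc] using this
      · simpa [Category.assoc] using w
    refine IsPullback.of_isLimit' ⟨hw⟩ (PullbackCone.IsLimit.mk _
      (fun t => (Fork.IsLimit.lift hlim (sq.lift t.fst t.snd (by rw [← Category.assoc, t.condition, Category.assoc]))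
        (by
          rw [← Category.assoc, sq.lift_fst, ← Category.assoc _ q, sq.lift_snd, ← Category.assoc, t.condition,
            Category.assoc]))) (fun t => ?_) (fun t => ?_) (fun t l h₁ h₂ => ?_))
    · rw [← Category.assoc]
      exact (congrArg (· ≫ p) (Fork.IsLimit.lift_ι' hlim _ _)).trans (sq.lift_fst _ _ _)
    · rw [← Category.assoc]
      exact (congrArg (· ≫ q) (Fork.IsLimit.lift_ι' hlim _ _)).trans (sq.lift_snd _ _ _)
    · refine Fork.IsLimit.hom_ext hlim ?_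
      refine Eq.trans ?_ (Fork.IsLimit.lift_ι' hlim _ _).symm
      apply sq.hom_ext
      · rw [sq.lift_fst]; simpa [Category.assoc] using h₁
      · rw [sq.lift_snd]; simpa [Category.assoc] using h₂
  exact isQC_of_iso hsq.isoPullback (hqc E hE)

lemma isQSHom_of_isQS (hE : IsAlgebraic J) {X Y : Sh J} (f : X ⟶ Y) (hX : IsQS X) : IsQSHom f := by
  obtain ⟨S, hqc, hgen, hpb, heq⟩ := hE
  obtain ⟨ι, F, π, hF, hπ⟩ := exists_cover_mem hgen X
  exact isQSHom_of_cover_qs (hasQCGenerators_of_set hqc hgen) f hπ (fun i => hqc _ (hF i))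
    (fun i j => isQS_subprod hqc hgen hpb heq (hF i) (hF j) (pullback.fst _ _) (pullback.snd _ _)
      fun _ _ _ => pullback.hom_ext) hX

lemma isQSHom_of_isQS_mem {S : Set (Sh J)} (hqc : ∀ K ∈ S, IsQC K) (hgen : IsGenerating S)
    (hpb : ClosedUnderPullbacks S) {X K : Sh J} (hK : K ∈ S) (f : X ⟶ K) (hX : IsQS X) :
    IsQSHom f := by
  obtain ⟨ι, F, π, hF, hπ⟩ := exists_cover_mem hgen X
  refine isQSHom_of_cover_qs (hasQCGenerators_of_set hqc hgen) f hπ (fun i => hqc _ (hF i))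
    (fun i j => ?_) hX
  obtain ⟨P, p, q, hP, sq⟩ := hpb (π i ≫ f) (π j ≫ f) (hF i) (hF j) hK
  exact isQS_of_iso sq.isoPullback (isCoherent_of_mem hqc hgen hpb hP).2
end Alg

namespace InvImg
variable {C D : Type u} [SmallCategory C] [SmallCategory D]
  {J : GrothendieckTopology C} {K : GrothendieckTopology D}
  (F : Sh K ⥤ Sh J) {R : Sh J ⥤ Sh K} (adj : F ⊣ R)

include adj in
lemma jEpi_map {ι : Type u} {X : Sh K} {G : ι → Sh K} {π : ∀ i, G i ⟶ X} (h : JEpi π) :
    JEpi (fun i => F.map (π i)) := fun Z a b hab => by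
  refine (adj.homEquiv _ _).injective (h _ _ fun i => ?_)
  rw [← Adjunction.homEquiv_naturality_left, ← Adjunction.homEquiv_naturality_left, hab i]

include adj in
lemma isQC_map {S : Set (Sh K)} (hgen : IsGenerating S) (h : ∀ X ∈ S, IsQC (F.obj X))
    {X : Sh K} (hX : IsQC X) : IsQC (F.obj X) := by
  obtain ⟨ι, G, π, hG, hπ⟩ := exists_cover_mem hgen X
  obtain ⟨s, hs⟩ := isQC_iff.1 hX _ _ _ hπ
  exact isQC_of_finite _ (jEpi_map F adj hs) fun k => h _ (hG k.1)

variable [PreservesFiniteLimits F]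

include adj in
lemma isQS_map (hE : HasQCGenerators J) {S : Set (Sh K)} (hS : ∀ X ∈ S, IsCoherent X)
    (hgen : IsGenerating S) (h : ∀ X ∈ S, IsCoherent (F.obj X)) {Y : Sh K} (hY : IsQS Y) :
    IsQS (F.obj Y) := by
  obtain ⟨ι, G, π, hG, hπ⟩ := exists_cover_mem hgen Y
  refine isQS_of_cover hE (jEpi_map F adj hπ) (fun i => (h _ (hG i)).2) fun i => ?_
  refine isQCHom_of_jEpi hE _ (jEpi_map F adj hπ)
    (fun j => (IsPullback.of_hasPullback (π i) (π j)).map F)
    (fun j => isQCHom_of_isQC_isQS _ ?_ (h _ (hG j)).2)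
  exact isQC_map F adj hgen (fun X hX => (h X hX).1) (hY _ _ _ _ (hS _ (hG i)).1 (hS _ (hG j)).1)
end InvImg

end Groth.Agent.H15Site.TFin
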