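import Groth.Agent.H15Site.ToposFin.Colim
import Mathlib.CategoryTheory.Filtered.Basic

/-!
# Presentations of objects of a topos by filtered colimits of finite presentations
-/

set_option autoImplicit false

universe u w

open CategoryTheory CategoryTheory.Limits Opposite

namespace Groth.Agent.H15Site.TFin

open ToposFin

variable {C : Type u} [SmallCategory C] {J : GrothendieckTopology C}

/-- `Q` is a coequalizer of a pair of maps between finite coproducts of members of `P`. -/
def Pres (P : Set (Sh J)) (Q : Sh J) : Prop :=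
  ∃ (α β : Type u) (_ : Finite α) (_ : Finite β) (A : α → Sh J) (B : β → Sh J) (a b : ∐ B ⟶ ∐ A),
    (∀ i, A i ∈ P) ∧ (∀ j, B j ∈ P) ∧ Nonempty (Q ≅ coequalizer a b)

namespace Present

variable {X : Sh J} {ι : Type u} {G : ι → Sh J} (g : ∀ i, G i ⟶ X) {K : ι → ι → Type u}
  {H : ∀ i j, K i j → Sh J} (h : ∀ i j k, H i j k ⟶ pullback (g i) (g j))

variable (K) in
/-- Finite stages. -/
abbrev Stage : Type u :=
  { st : Finset ι × Finset (Σ i j, K i j) // ∀ k ∈ st.2, k.1 ∈ st.1 ∧ k.2.1 ∈ st.1 }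

/-- The first map of the presentation at a stage. -/
noncomputable abbrev left (st : Stage K) :
    (∐ fun k : st.1.2 => H k.1.1 k.1.2.1 k.1.2.2) ⟶ ∐ fun i : st.1.1 => G i :=
  Sigma.desc fun k => (h _ _ _ ≫ pullback.fst _ _) ≫
    Sigma.ι (fun i : st.1.1 => G i) ⟨k.1.1, (st.2 k.1 k.2).1⟩

/-- The second map of the presentation at a stage. -/
noncomputable abbrev right (st : Stage K) :
    (∐ fun k : st.1.2 => H k.1.1 k.1.2.1 k.1.2.2) ⟶ ∐ fun i : st.1.1 => G i :=
  Sigma.desc fun k => (h _ _ _ ≫ pullback.snd _ _) ≫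
    Sigma.ι (fun i : st.1.1 => G i) ⟨k.1.2.1, (st.2 k.1 k.2).2⟩

/-- The inclusion of a generator into a stage. -/
noncomputable def inc (st : Stage K) (i : ι) (hi : i ∈ st.1.1) :
    G i ⟶ coequalizer (left g h st) (right g h st) :=
  Sigma.ι (fun i : st.1.1 => G i) ⟨i, hi⟩ ≫ coequalizer.π (left g h st) (right g h st)

theorem inc_rel (st : Stage K) (i j : ι) (k : K i j) (hk : (⟨i, j, k⟩ : Σ i j, K i j) ∈ st.1.2)
    (hi : i ∈ st.1.1) (hj : j ∈ st.1.1) :
    h i j k ≫ pullback.fst _ _ ≫ inc g h st i hi = h i j k ≫ pullback.snd _ _ ≫ inc g h st j hj := by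
  have := congrArg (fun φ => Sigma.ι (fun k : st.1.2 => H k.1.1 k.1.2.1 k.1.2.2) ⟨⟨i, j, k⟩, hk⟩ ≫ φ)
    (coequalizer.condition (left g h st) (right g h st))
  simpa [inc, Category.assoc] using this

theorem stage_hom_ext {st : Stage K} {Z : Sh J}
    {a b : coequalizer (left g h st) (right g h st) ⟶ Z}
    (hab : ∀ i hi, inc g h st i hi ≫ a = inc g h st i hi ≫ b) : a = b := by
  apply coequalizer.hom_ext
  refine Sigma.hom_ext _ _ fun i => ?_
  have := hab i.1 i.2
  simpa [inc, Category.assoc] using this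

/-- A map out of a stage. -/
noncomputable def stageDesc (st : Stage K) {Z : Sh J} (b : ∀ i ∈ st.1.1, G i ⟶ Z)
    (hb : ∀ (i j : ι) (k : K i j), (⟨i, j, k⟩ : Σ i j, K i j) ∈ st.1.2 → ∀ hi hj,
      h i j k ≫ pullback.fst _ _ ≫ b i hi = h i j k ≫ pullback.snd _ _ ≫ b j hj) :
    coequalizer (left g h st) (right g h st) ⟶ Z :=
  coequalizer.desc (Sigma.desc fun i => b i.1 i.2) (Sigma.hom_ext _ _ fun k => by
    simp only [left, right, Sigma.ι_desc_assoc, Category.assoc, Sigma.ι_desc]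
    exact hb k.1.1 k.1.2.1 k.1.2.2 k.2 (st.2 k.1 k.2).1 (st.2 k.1 k.2).2)

theorem inc_stageDesc (st : Stage K) {Z : Sh J} (b : ∀ i ∈ st.1.1, G i ⟶ Z) (hb) (i : ι)
    (hi : i ∈ st.1.1) : inc g h st i hi ≫ stageDesc g h st b hb = b i hi := by
  simp [inc, stageDesc]

/-- The diagram of finite stages. -/
noncomputable def diagram : Stage K ⥤ Sh J where
  obj st := coequalizer (left g h st) (right g h st)
  map {s t} f := stageDesc g h s (fun i hi => inc g h t i ((leOfHom f).1 hi))
    (fun i j k hk _ _ => inc_rel g h t i j k ((leOfHom f).2 hk) _ _)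
  map_id s := stage_hom_ext g h fun i hi => by
    rw [inc_stageDesc]
    exact (Category.comp_id _).symm
  map_comp f f' := stage_hom_ext g h fun i hi => by
    rw [inc_stageDesc, ← Category.assoc, inc_stageDesc, inc_stageDesc]

instance : Nonempty (Stage K) := ⟨⟨(∅, ∅), by simp⟩⟩

theorem directed (s t : Stage K) : ∃ r : Stage K, s ≤ r ∧ t ≤ r := by
  classical
  refine ⟨⟨(s.1.1 ∪ t.1.1, s.1.2 ∪ t.1.2), fun k hk => ?_⟩,
    ⟨Finset.subset_union_left, Finset.subset_union_left⟩,
    ⟨Finset.subset_union_right, Finset.subset_union_right⟩⟩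
  rcases Finset.mem_union.1 hk with hk | hk
  · exact ⟨Finset.subset_union_left (s.2 k hk).1, Finset.subset_union_left (s.2 k hk).2⟩
  · exact ⟨Finset.subset_union_right (t.2 k hk).1, Finset.subset_union_right (t.2 k hk).2⟩

instance : IsDirectedOrder (Stage K) := ⟨directed⟩

/-- The canonical cocone with point `X`. -/
noncomputable def toX : Cocone (diagram g h) where
  pt := X
  ι :=
    { app := fun st => stageDesc g h st (fun i _ => g i) (fun i j k _ _ _ => by
        rw [pullback.condition])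
      naturality := fun s t f => by
        refine stage_hom_ext g h fun i hi => ?_
        refine ((Category.assoc _ _ _).symm.trans ((congrArg (· ≫ _) (inc_stageDesc g h s _ _ i hi)).trans
          (inc_stageDesc g h t _ _ i _))).trans ?_
        simp only [Functor.const_obj_map]
        exact (inc_stageDesc g h s (fun i _ => g i) (fun i j k _ _ _ => by rw [pullback.condition]) i hi).symm.trans
          (congrArg (inc g h s i hi ≫ ·) (Category.comp_id _).symm) }

theorem nonempty_iso (hg : JEpi g) (hh : ∀ i j, JEpi (h i j)) :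
    Nonempty (X ≅ colimit (diagram g h)) := by
  classical
  let D := diagram g h
  let one : ι → Stage K := fun i => ⟨({i}, ∅), by simp⟩
  let b : ∀ i, G i ⟶ colimit D := fun i =>
    inc g h (one i) i (Finset.mem_singleton_self i) ≫ colimit.ι D (one i)
  have hb : ∀ (st : Stage K) (i : ι) (hi : i ∈ st.1.1),
      inc g h st i hi ≫ colimit.ι D st = b i := by
    intro st i hi
    have hle : one i ≤ st := ⟨Finset.singleton_subset_iff.2 hi, Finset.empty_subset _⟩
    have e : inc g h (one i) i (Finset.mem_singleton_self i) ≫ D.map (homOfLE hle) = inc g h st i hi :=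
      inc_stageDesc g h (one i) _ _ i _
    exact (congrArg (· ≫ colimit.ι D st) e.symm).trans
      ((Category.assoc _ _ _).trans (congrArg _ (colimit.w D (homOfLE hle))))
  obtain ⟨t, ht⟩ := hg.exists_desc b fun i j => hh i j _ _ fun k => by
    let st : Stage K := ⟨({i, j}, {⟨i, j, k⟩}), by simp⟩
    rw [← hb st i (by simp [st]), ← hb st j (by simp [st])]
    have := congrArg (· ≫ colimit.ι D st)
      (inc_rel g h st i j k (by simp [st]) (by simp [st]) (by simp [st]))
    exact ((Category.assoc _ _ _).trans (congrArg (h i j k ≫ ·) (Category.assoc _ _ _))).symm.trans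
      (this.trans ((Category.assoc _ _ _).trans (congrArg (h i j k ≫ ·) (Category.assoc _ _ _))))
  refine ⟨⟨t, colimit.desc D (toX g h), hg _ _ fun i => ?_, colimit.hom_ext fun st => ?_⟩⟩
  · refine (Category.assoc _ _ _).symm.trans ((congrArg (· ≫ _) (ht i)).trans
      (Eq.trans ?_ (Category.comp_id _).symm))
    exact (Category.assoc _ _ _).trans ((congrArg (inc g h (one i) i _ ≫ ·) (colimit.ι_desc _ _)).trans
      (inc_stageDesc g h _ _ _ _ _))
  · refine (Category.assoc _ _ _).symm.trans ((congrArg (· ≫ t) (colimit.ι_desc _ _)).trans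
      (Eq.trans ?_ (Category.comp_id _).symm))
    refine stage_hom_ext g h fun i hi => ?_
    refine (Category.assoc _ _ _).symm.trans ?_
    exact (congrArg (· ≫ t) (inc_stageDesc g h _ _ _ i hi)).trans ((ht i).trans (hb st i hi).symm)

end Present

/-- Every object is a filtered colimit of finitely presented objects built from a covering class. -/
theorem exists_presentation {P : Set (Sh J)} (hP : IsGenerating P) (X : Sh J) :
    ∃ (I : Type u) (_ : SmallCategory I) (_ : IsFiltered I) (D : I ⥤ Sh J),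
      (∀ i, Pres P (D.obj i)) ∧ Nonempty (X ≅ colimit D) := by
  obtain ⟨ι, G, g, hG, hg⟩ := exists_cover_mem hP X
  choose K H h hH hh using fun i j => exists_cover_mem hP (pullback (g i) (g j))
  exact ⟨Present.Stage K, inferInstance, inferInstance, Present.diagram g h, fun st =>
    ⟨st.1.1, st.1.2, inferInstance, inferInstance, _, _, _, _, fun i => hG _, fun k => hH _ _ _,
      ⟨Iso.refl _⟩⟩, Present.nonempty_iso g h hg hh⟩

/-- Morphisms out of `Q` commute with filtered colimits (elementwise form). -/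
theorem isFP_iff {Q : Sh J} : IsFP Q ↔ ∀ (I : Type u) [SmallCategory I] [IsFiltered I] (D : I ⥤ Sh J),
    (∀ (i : I) (a b : Q ⟶ D.obj i), a ≫ colimit.ι D i = b ≫ colimit.ι D i →
      ∃ (k : I) (f : i ⟶ k), a ≫ D.map f = b ≫ D.map f) ∧
    ∀ φ : Q ⟶ colimit D, ∃ (i : I) (a : Q ⟶ D.obj i), a ≫ colimit.ι D i = φ := by
  constructor
  · intro h I _ _ D
    refine ⟨(post_injective_iff Q D).1 (h I D).1, fun φ => ?_⟩
    obtain ⟨x, hx⟩ := (h I D).2 φ
    obtain ⟨i, a, rfl⟩ := Types.jointly_surjective _ (colimit.isColimit (D ⋙ coyoneda.obj (op Q))) x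
    exact ⟨i, a, (post_coyoneda_ι Q D i a).symm.trans hx⟩
  · intro h I _ _ D
    refine ⟨(post_injective_iff Q D).2 (h I D).1, fun φ => ?_⟩
    obtain ⟨i, a, ha⟩ := (h I D).2 φ
    exact ⟨colimit.ι (D ⋙ coyoneda.obj (op Q)) i a, (post_coyoneda_ι Q D i a).trans ha⟩

theorem isFP_of_retract {X Q : Sh J} (i : X ⟶ Q) (p : Q ⟶ X) (hip : i ≫ p = 𝟙 X) (hQ : IsFP Q) :
    IsFP X := by
  rw [isFP_iff] at hQ ⊢
  intro I _ _ D
  refine ⟨fun j a b e => ?_, fun φ => ?_⟩
  · obtain ⟨k, f, hf⟩ := (hQ I D).1 j (p ≫ a) (p ≫ b) (by rw [Category.assoc, e, Category.assoc])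
    refine ⟨k, f, ?_⟩
    have := congrArg (i ≫ ·) hf
    simpa [reassoc_of% hip] using this
  · obtain ⟨j, a, ha⟩ := (hQ I D).2 (p ≫ φ)
    exact ⟨j, i ≫ a, by rw [Category.assoc, ha, reassoc_of% hip]⟩

theorem isFP_coequalizer {X₀ X₁ : Sh J} (a b : X₁ ⟶ X₀) (h₀ : IsFP X₀) (h₁ : IsFP X₁) :
    IsFP (coequalizer a b) := by
  rw [isFP_iff] at h₀ h₁ ⊢
  intro I _ _ D
  refine ⟨fun i p q e => ?_, fun φ => ?_⟩
  · obtain ⟨k, f, hf⟩ := (h₀ I D).1 i (coequalizer.π a b ≫ p) (coequalizer.π a b ≫ q)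
      (by rw [Category.assoc, e, Category.assoc])
    exact ⟨k, f, coequalizer.hom_ext (by simpa [Category.assoc] using hf)⟩
  · obtain ⟨i, p, hp⟩ := (h₀ I D).2 (coequalizer.π a b ≫ φ)
    obtain ⟨k, f, hf⟩ := (h₁ I D).1 i (a ≫ p) (b ≫ p)
      (by rw [Category.assoc, Category.assoc, hp, coequalizer.condition_assoc])
    refine ⟨k, coequalizer.desc (p ≫ D.map f) (by simpa [Category.assoc] using hf),
      coequalizer.hom_ext ?_⟩
    rw [coequalizer.π_desc_assoc, Category.assoc, colimit.w, hp]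

theorem hasQCGenerators_of_coherent (hE : HasCoherentGenerators J) : HasQCGenerators J := fun X => by
  obtain ⟨ι, F, π, h, hπ⟩ := hE X
  exact ⟨ι, F, π, fun i => (h i).1, hπ⟩

theorem isFP_of_isCoherent (hE : HasQCGenerators J) {X : Sh J} (hX : IsCoherent X) : IsFP X :=
  fun _ _ _ D => post_bijective hE hX D

theorem isGenerating_coherent (hE : HasCoherentGenerators J) :
    IsGenerating (Set.ofPred fun X : Sh J => IsCoherent X) := fun X => by
  obtain ⟨ι, F, π, h, hπ⟩ := hE X
  exact ⟨ι, F, π, h, fun Z a b hab => (jEpi_iff_epi π).2 hπ a b hab⟩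

theorem isCoherent_cofan {ι : Type u} [Finite ι] {F : ι → Sh J} {c : Cofan F} (hc : IsColimit c)
    (h : ∀ i, IsCoherent (F i)) : IsCoherent c.pt :=
  ⟨isQC_of_finite _ (jEpi_cofan hc) fun i => (h i).1, isQS_cofan hc fun i => (h i).2⟩

theorem isCoherent_of_retract {X Q : Sh J} (i : X ⟶ Q) (p : Q ⟶ X) (hip : i ≫ p = 𝟙 X)
    (hQ : IsCoherent Q) : IsCoherent X := by
  haveI : Epi p := (SplitEpi.mk i hip).epi
  haveI : Mono i := (SplitMono.mk p hip).mono
  exact ⟨isQC_of_epi p hQ.1, isQS_of_mono i hQ.2⟩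

theorem exists_retract_pres {P : Set (Sh J)} (hP : IsGenerating P) {X : Sh J} (hX : IsFP X) :
    ∃ Q : Sh J, Pres P Q ∧ ∃ (i : X ⟶ Q) (p : Q ⟶ X), i ≫ p = 𝟙 X := by
  obtain ⟨I, _, _, D, hD, ⟨e⟩⟩ := exists_presentation hP X
  obtain ⟨i, a, ha⟩ := (isFP_iff.1 hX I D).2 e.hom
  exact ⟨D.obj i, hD i, a, colimit.ι D i ≫ e.inv, by rw [← Category.assoc, ha, e.hom_inv_id]⟩

end Groth.Agent.H15Site.TFin
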