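import Groth.Agent.H15Site.ToposFin.Eps
import Mathlib.CategoryTheory.Limits.Types.Filtered

/-!
# Filtered colimits in a topos of sheaves of sets and morphisms out of quasi-compact objects
-/

set_option autoImplicit false

universe u w w'

open CategoryTheory CategoryTheory.Limits Opposite

namespace Groth.Agent.H15Site.TFin

open ToposFin

variable {C : Type u} [SmallCategory C] {J : GrothendieckTopology C}

/-- Morphisms agreeing on a cover glue. -/
theorem JEpi.exists_desc {ι : Type w} {X : Sh J} {F : ι → Sh J} {π : ∀ i, F i ⟶ X} (h : JEpi π)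
    {Z : Sh J} (b : ∀ i, F i ⟶ Z)
    (hb : ∀ i j, CategoryTheory.Limits.pullback.fst (π i) (π j) ≫ b i =
      CategoryTheory.Limits.pullback.snd (π i) (π j) ≫ b j) : ∃ t : X ⟶ Z, ∀ i, π i ≫ t = b i := by
  have key : ∀ {V : C} (i j : ι) (y : (F i).obj.obj (op V)) (y' : (F j).obj.obj (op V)),
      (π i).hom.app (op V) y = (π j).hom.app (op V) y' →
        (b i).hom.app (op V) y = (b j).hom.app (op V) y' := by
    intro V i j y y' e
    obtain ⟨z, rfl, rfl⟩ := isPullback_elt (IsPullback.of_hasPullback (π i) (π j)) y y' e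
    exact ConcreteCategory.congr_hom
      (congrArg (fun φ : CategoryTheory.Limits.pullback (π i) (π j) ⟶ Z => φ.hom.app (op V)) (hb i j)) z
  have hZ := (isSheaf_iff_isSheaf_of_type J _).1 Z.property
  let fam : ∀ (U : C) (x : X.obj.obj (op U)),
      Presieve.FamilyOfElements Z.obj (jointImage π x : Presieve U) :=
    fun U x V f hf => (b hf.choose).hom.app (op V) hf.choose_spec.choose
  have hfam : ∀ (U : C) (x : X.obj.obj (op U)) {V : C} (f : V ⟶ U)
      (hf : (jointImage π x).arrows f) (i : ι) (y : (F i).obj.obj (op V)),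
      (π i).hom.app (op V) y = X.obj.map f.op x → fam U x f hf = (b i).hom.app (op V) y :=
    fun U x V f hf i y hy => key _ _ _ _ (hf.choose_spec.choose_spec.trans hy.symm)
  have hcomp : ∀ (U : C) (x : X.obj.obj (op U)), (fam U x).Compatible := by
    intro U x Y₁ Y₂ V g₁ g₂ f₁ f₂ h₁ h₂ e
    obtain ⟨i, y, hy⟩ := h₁
    obtain ⟨j, y', hy'⟩ := h₂
    refine (congrArg (Z.obj.map g₁.op) (hfam U x f₁ _ i y hy)).trans (Eq.trans ?_
      (congrArg (Z.obj.map g₂.op) (hfam U x f₂ _ j y' hy')).symm)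
    rw [← app_map, ← app_map]
    apply key
    rw [app_map, app_map, hy, hy', ← Functor.map_comp_apply, ← Functor.map_comp_apply, ← op_comp,
      ← op_comp, e]
  let amal : ∀ (U : C) (x : X.obj.obj (op U)), Z.obj.obj (op U) := fun U x =>
    (hZ _ ((jEpi_iff π).1 h U x)).amalgamate (fam U x) (hcomp U x)
  have hamal : ∀ (U : C) (x : X.obj.obj (op U)) {V : C} (f : V ⟶ U) (i : ι)
      (y : (F i).obj.obj (op V)), (π i).hom.app (op V) y = X.obj.map f.op x →
        Z.obj.map f.op (amal U x) = (b i).hom.app (op V) y := fun U x V f i y hy =>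
    ((hZ _ ((jEpi_iff π).1 h U x)).valid_glue (hcomp U x) f ⟨i, y, hy⟩).trans
      (hfam U x f ⟨i, y, hy⟩ i y hy)
  refine ⟨⟨{ app := fun U => ↾fun x => amal U.unop x, naturality := fun U U' g => ?_ }⟩, fun i => ?_⟩
  · ext x
    refine sep Z _ ((jEpi_iff π).1 h U'.unop (X.obj.map g x)) ?_
    rintro V f ⟨i, y, hy⟩
    refine (hamal _ (X.obj.map g x) f i y hy).trans ?_
    refine (hamal U.unop x (f ≫ g.unop) i y ?_).symm.trans ?_
    · rw [hy, ← Functor.map_comp_apply]
      rfl
    · exact Functor.map_comp_apply Z.obj g f.op (amal U.unop x)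
  · ext U y
    have := hamal U.unop ((π i).hom.app U y) (𝟙 _) i y (by simp)
    rw [op_id, CategoryTheory.Functor.map_id] at this
    exact this

variable {I : Type u} [SmallCategory I]

theorem jEpi_colimit {D : I ⥤ Sh J} {c : Cocone D} (hc : IsColimit c) : JEpi c.ι.app :=
  fun _ _ _ h => hc.hom_ext h

/-- Sections of a filtered colimit which agree, agree locally at some stage. -/
theorem colimit_app_eq [IsFiltered I] {D : I ⥤ Sh J} {c : Cocone D} (hc : IsColimit c) {i : I}
    {U : C} {y y' : (D.obj i).obj.obj (op U)}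
    (h : (c.ι.app i).hom.app (op U) y = (c.ι.app i).hom.app (op U) y') :
    ∃ S ∈ J U, ∀ ⦃V : C⦄ (f : V ⟶ U), S f → ∃ (k : I) (g : i ⟶ k),
      (D.map g).hom.app (op V) ((D.obj i).obj.map f.op y) =
        (D.map g).hom.app (op V) ((D.obj i).obj.map f.op y') := by
  let P := D ⋙ sheafToPresheaf J (Type u)
  let hd := colimit.isColimit P
  let η : (colimit.cocone P).pt ⟶ c.pt.obj := hd.desc ((sheafToPresheaf J (Type u)).mapCocone c)
  let adj := sheafificationAdjunction J (Type u)
  let T : Cocone D :=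
    { pt := (presheafToSheaf J (Type u)).obj (colimit.cocone P).pt
      ι :=
        { app := fun k => ⟨(colimit.cocone P).ι.app k ≫ adj.unit.app (colimit.cocone P).pt⟩
          naturality := fun k l g => by
            ext1
            refine ((Category.assoc _ _ _).symm.trans ?_).trans (Category.comp_id _).symm
            exact congrArg (· ≫ adj.unit.app (colimit.cocone P).pt) ((colimit.cocone P).w g) } }
  let ψ := hc.desc T
  have hψ : η ≫ ψ.hom = adj.unit.app (colimit.cocone P).pt := hd.hom_ext fun k => by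
    rw [← Category.assoc, hd.fac]
    exact congrArg (fun φ : D.obj k ⟶ T.pt => φ.hom) (hc.fac T k)
  have : Presheaf.IsLocallyInjective J (η ≫ ψ.hom) := by
    rw [hψ]
    exact inferInstanceAs (Presheaf.IsLocallyInjective J (toSheafify J (colimit.cocone P).pt))
  haveI := Presheaf.isLocallyInjective_of_isLocallyInjective J η ψ.hom
  have hη : η.app (op U) (((colimit.cocone P).ι.app i).app (op U) y) =
      η.app (op U) (((colimit.cocone P).ι.app i).app (op U) y') := by
    rw [← NatTrans.comp_app_apply, ← NatTrans.comp_app_apply, hd.fac]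
    exact h
  refine ⟨_, Presheaf.equalizerSieve_mem J η _ _ hη, fun V f hf => ?_⟩
  have hV := isColimitOfPreserves ((evaluation Cᵒᵖ (Type u)).obj (op V)) hd
  refine (Types.FilteredColimit.isColimit_eq_iff' hV ((D.obj i).obj.map f.op y)
    ((D.obj i).obj.map f.op y')).1 ?_
  refine ((ConcreteCategory.congr_hom (((colimit.cocone P).ι.app i).naturality f.op) y).trans ?_).trans
    (ConcreteCategory.congr_hom (((colimit.cocone P).ι.app i).naturality f.op) y').symm
  exact hf

/-- In a filtered category, finitely many upward closed conditions are simultaneously satisfied. -/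
theorem exists_common [IsFiltered I] {κ : Type w} [Finite κ] {i : I}
    (P : κ → ∀ k : I, (i ⟶ k) → Prop) (hex : ∀ s, ∃ (k : I) (f : i ⟶ k), P s k f)
    (hup : ∀ s k l (f : i ⟶ k) (g : k ⟶ l), P s k f → P s l (f ≫ g)) :
    ∃ (k : I) (f : i ⟶ k), ∀ s, P s k f := by
  classical
  haveI := Fintype.ofFinite κ
  suffices ∀ t : Finset κ, ∃ (k : I) (f : i ⟶ k), ∀ s ∈ t, P s k f by
    obtain ⟨k, f, h⟩ := this Finset.univ
    exact ⟨k, f, fun s => h s (Finset.mem_univ s)⟩
  intro t
  induction t using Finset.induction with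
  | empty => exact ⟨i, 𝟙 _, by simp⟩
  | @insert a t _ ih =>
    obtain ⟨k, f, h⟩ := ih
    obtain ⟨l, g, hg⟩ := hex a
    obtain ⟨m, p, q, e⟩ := IsFiltered.span f g
    refine ⟨m, f ≫ p, fun s hs => ?_⟩
    rcases Finset.mem_insert.1 hs with rfl | hs
    · rw [e]; exact hup _ _ _ _ _ hg
    · exact hup _ _ _ _ _ (h s hs)

/-- Morphisms out of a quasi-compact object equal in a filtered colimit are equal at some stage. -/
theorem hom_colimit_inj [IsFiltered I] {X : Sh J} (hX : IsQC X) {D : I ⥤ Sh J} {c : Cocone D}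
    (hc : IsColimit c) {i : I} (a b : X ⟶ D.obj i) (h : a ≫ c.ι.app i = b ≫ c.ι.app i) :
    ∃ (k : I) (f : i ⟶ k), a ≫ D.map f = b ≫ D.map f := by
  let ι := Σ V : C, { x : X.obj.obj (op V) // ∃ (k : I) (f : i ⟶ k),
    (D.map f).hom.app (op V) (a.hom.app (op V) x) = (D.map f).hom.app (op V) (b.hom.app (op V) x) }
  let π : ∀ p : ι, eps J p.1 ⟶ X := fun p => (sheafifyYonedaHomEquiv J p.1 X).symm p.2.1
  have hπ : JEpi π := (jEpi_iff π).2 fun U x => by
    obtain ⟨S, hS, hS'⟩ := colimit_app_eq hc (y := a.hom.app (op U) x) (y' := b.hom.app (op U) x)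
      (ConcreteCategory.congr_hom (congrArg (fun φ : X ⟶ c.pt => φ.hom.app (op U)) h) x)
    refine J.superset_covering ?_ hS
    intro V f hf
    obtain ⟨k, g, hg⟩ := hS' f hf
    refine ⟨⟨V, X.obj.map f.op x, k, g, by rw [app_map a, app_map b]; exact hg⟩, toEps (𝟙 V), ?_⟩
    rw [homEquiv_symm_toEps]
    simp
  obtain ⟨s, hs⟩ := isQC_iff.1 hX _ _ π hπ
  obtain ⟨k, f, hf⟩ := exists_common (κ := s)
    (fun p k f => (D.map f).hom.app _ (a.hom.app _ p.1.2.1) = (D.map f).hom.app _ (b.hom.app _ p.1.2.1))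
    (fun p => p.1.2.2) (fun p k l f g e => by
      rw [D.map_comp]
      exact congrArg ((D.map g).hom.app _) e)
  refine ⟨k, f, hs _ _ fun p => (sheafifyYonedaHomEquiv J p.1.1 _).injective ?_⟩
  rw [sheafifyYonedaHomEquiv_naturality_right, sheafifyYonedaHomEquiv_naturality_right,
    Equiv.apply_symm_apply]
  exact hf p

/-- A morphism from a coherent object to a filtered colimit factors through some stage. -/
theorem hom_colimit_surj [IsFiltered I] (hE : HasQCGenerators J) {X : Sh J} (hX : IsCoherent X)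
    {D : I ⥤ Sh J} {c : Cocone D} (hc : IsColimit c) (φ : X ⟶ c.pt) :
    ∃ (i : I) (a : X ⟶ D.obj i), a ≫ c.ι.app i = φ := by
  classical
  obtain ⟨κ, _, T, ρ, hρ, hk⟩ := exists_finite_refine hE hX.1 _ ((jEpi_colimit hc).pullback φ)
  choose hT i t ht using hk
  haveI := Fintype.ofFinite κ
  obtain ⟨i₀, hi₀⟩ := IsFiltered.sup_objs_exists (Finset.univ.image i)
  let u : ∀ k, i k ⟶ i₀ := fun k => (hi₀ (Finset.mem_image_of_mem i (Finset.mem_univ k))).some
  let b : ∀ k, T k ⟶ D.obj i₀ := fun k =>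
    (t k ≫ CategoryTheory.Limits.pullback.fst (c.ι.app (i k)) φ) ≫ D.map (u k)
  have hb : ∀ k, b k ≫ c.ι.app i₀ = ρ k ≫ φ := fun k => by
    simp only [b, Category.assoc, c.w, CategoryTheory.Limits.pullback.condition]
    rw [← Category.assoc, ht k]
  have hkl : ∀ p : κ × κ, ∃ (j : I) (f : i₀ ⟶ j),
      (CategoryTheory.Limits.pullback.fst (ρ p.1) (ρ p.2) ≫ b p.1) ≫ D.map f =
        (CategoryTheory.Limits.pullback.snd (ρ p.1) (ρ p.2) ≫ b p.2) ≫ D.map f := fun p => by
    refine hom_colimit_inj (hX.2 _ _ _ _ (hT p.1) (hT p.2)) hc _ _ ?_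
    exact (Category.assoc _ _ _).trans ((congrArg (CategoryTheory.Limits.pullback.fst _ _ ≫ ·) (hb p.1)).trans
      ((CategoryTheory.Limits.pullback.condition_assoc φ).trans
        ((congrArg (CategoryTheory.Limits.pullback.snd _ _ ≫ ·) (hb p.2).symm).trans
          (Category.assoc _ _ _).symm)))
  obtain ⟨j, f, hf⟩ := exists_common _ hkl (fun p k l f g e => by
    rw [D.map_comp, ← Category.assoc, e, Category.assoc])
  obtain ⟨a, ha⟩ := hρ.exists_desc (fun k => b k ≫ D.map f) fun k l => by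
    simpa [Category.assoc] using hf (k, l)
  refine ⟨j, a, hρ _ _ fun k => ?_⟩
  rw [← Category.assoc, ha k, Category.assoc, c.w, hb]

theorem post_coyoneda_ι (X : Sh J) (D : I ⥤ Sh J) (i : I) (a : X ⟶ D.obj i) :
    colimit.post D (coyoneda.obj (op X)) (colimit.ι (D ⋙ coyoneda.obj (op X)) i a) =
      a ≫ colimit.ι D i :=
  ConcreteCategory.congr_hom (colimit.ι_post D (coyoneda.obj (op X)) i) a

theorem post_injective_iff [IsFiltered I] (X : Sh J) (D : I ⥤ Sh J) :
    Function.Injective (colimit.post D (coyoneda.obj (op X))) ↔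
      ∀ (i : I) (a b : X ⟶ D.obj i), a ≫ colimit.ι D i = b ≫ colimit.ι D i →
        ∃ (k : I) (f : i ⟶ k), a ≫ D.map f = b ≫ D.map f := by
  have hl := colimit.isColimit (D ⋙ coyoneda.obj (op X))
  constructor
  · intro h i a b e
    obtain ⟨k, f, hf⟩ := (Types.FilteredColimit.isColimit_eq_iff' hl a b).1
      (h ((post_coyoneda_ι X D i a).trans (e.trans (post_coyoneda_ι X D i b).symm)))
    exact ⟨k, f, hf⟩
  · intro h x y e
    obtain ⟨i, a, rfl⟩ := Types.jointly_surjective _ hl x
    obtain ⟨j, b, rfl⟩ := Types.jointly_surjective _ hl y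
    let k := IsFiltered.max i j
    have e' : (a ≫ D.map (IsFiltered.leftToMax i j)) ≫ colimit.ι D k =
        (b ≫ D.map (IsFiltered.rightToMax i j)) ≫ colimit.ι D k := by
      exact ((Category.assoc _ _ _).trans (congrArg (a ≫ ·) (colimit.w D _))).trans
        (((post_coyoneda_ι X D i a).symm.trans (e.trans (post_coyoneda_ι X D j b))).trans
          ((Category.assoc _ _ _).trans (congrArg (b ≫ ·) (colimit.w D _))).symm)
    obtain ⟨m, g, hg⟩ := h k _ _ e'
    refine (Types.FilteredColimit.isColimit_eq_iff _ hl).2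
      ⟨m, IsFiltered.leftToMax i j ≫ g, IsFiltered.rightToMax i j ≫ g, ?_⟩
    change a ≫ D.map _ = b ≫ D.map _
    simpa [Category.assoc] using hg

theorem post_bijective [IsFiltered I] (hE : HasQCGenerators J) {X : Sh J} (hX : IsCoherent X)
    (D : I ⥤ Sh J) : Function.Bijective (colimit.post D (coyoneda.obj (op X))) := by
  refine ⟨(post_injective_iff X D).2 fun i a b => hom_colimit_inj hX.1 (colimit.isColimit D) a b,
    fun φ => ?_⟩
  obtain ⟨i, a, ha⟩ := hom_colimit_surj hE hX (colimit.isColimit D) φ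
  exact ⟨colimit.ι (D ⋙ coyoneda.obj (op X)) i a, (post_coyoneda_ι X D i a).trans ha⟩

end Groth.Agent.H15Site.TFin
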