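import Groth.Prelude.Def_SGA4c
import Mathlib.CategoryTheory.Sites.Subsheaf
import Mathlib.CategoryTheory.Sites.LocallySurjective
import Mathlib.CategoryTheory.Limits.Types.Coproducts
import Mathlib.CategoryTheory.Limits.Types.Pullbacks
import Mathlib.CategoryTheory.Limits.Shapes.Pullback.IsPullback.Basic
import Mathlib.CategoryTheory.Limits.Preserves.Shapes.Pullbacks

/-!
# Jointly epimorphic families in a topos of sheaves of sets on a small site
-/

set_option autoImplicit false

universe u w w'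

open CategoryTheory CategoryTheory.Limits Opposite

namespace Groth.Agent.H15Site.TFin

open ToposFin

variable {C : Type u} [SmallCategory C] {J : GrothendieckTopology C}

/-- A family of morphisms is jointly epimorphic. -/
def JEpi {ι : Type w} {X : Sh J} {F : ι → Sh J} (π : ∀ i, F i ⟶ X) : Prop :=
  ∀ ⦃Z : Sh J⦄ (a b : X ⟶ Z), (∀ i, π i ≫ a = π i ≫ b) → a = b

/-- Sections of a sheaf of sets are determined on a covering sieve. -/
theorem sep (F : Sh J) {U : C} (S : Sieve U) (hS : S ∈ J U) {s t : F.obj.obj (op U)}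
    (h : ∀ ⦃V : C⦄ (f : V ⟶ U), S f → F.obj.map f.op s = F.obj.map f.op t) : s = t :=
  (((isSheaf_iff_isSheaf_of_type J _).1 F.property) S hS).isSeparatedFor.ext h

/-- Morphisms of sheaves are natural on sections. -/
theorem app_map {X Y : Sh J} (φ : X ⟶ Y) {U V : C} (f : V ⟶ U) (x : X.obj.obj (op U)) :
    φ.hom.app (op V) (X.obj.map f.op x) = Y.obj.map f.op (φ.hom.app (op U) x) :=
  ConcreteCategory.congr_hom (φ.hom.naturality f.op) x

/-- The sieve of arrows along which a section comes from a member of the family. -/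
def jointImage {ι : Type w} {X : Sh J} {F : ι → Sh J} (π : ∀ i, F i ⟶ X) {U : C}
    (x : X.obj.obj (op U)) : Sieve U where
  arrows V f := ∃ (i : ι) (y : (F i).obj.obj (op V)), (π i).hom.app (op V) y = X.obj.map f.op x
  downward_closed := by
    rintro V W f ⟨i, y, hy⟩ g
    exact ⟨i, (F i).obj.map g.op y, by rw [app_map, hy, op_comp, Functor.map_comp_apply]⟩

theorem jEpi_iff {ι : Type w} {X : Sh J} {F : ι → Sh J} (π : ∀ i, F i ⟶ X) :
    JEpi π ↔ ∀ (U : C) (x : X.obj.obj (op U)), jointImage π x ∈ J U := by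
  constructor
  · intro h U x
    let G : Subfunctor X.obj :=
      { obj := fun V => Set.ofPred (fun s : X.obj.obj V =>
          ∃ (i : ι) (y : (F i).obj.obj V), (π i).hom.app V y = s)
        map := by
          rintro V W f s ⟨i, y, rfl⟩
          exact ⟨i, (F i).obj.map f y, ConcreteCategory.congr_hom ((π i).hom.naturality f) y⟩ }
    let Y : Sh J := ⟨(G.sheafify J).toFunctor, (isSheaf_iff_isSheaf_of_type J _).2
      (G.sheafify_isSheaf ((isSheaf_iff_isSheaf_of_type J _).1 X.property))⟩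
    let m : Y ⟶ X := ⟨(G.sheafify J).ι⟩
    haveI : Mono m := (sheafToPresheaf J (Type u)).mono_of_mono_map
      (inferInstanceAs (Mono (G.sheafify J).ι))
    haveI : Epi m := ⟨fun a b hab => h a b fun i => by
      let l : F i ⟶ Y :=
        ⟨{ app := fun V => ↾fun y => ⟨(π i).hom.app V y, G.le_sheafify J _ ⟨i, y, rfl⟩⟩
           naturality := fun V W f => by
            ext y
            apply Subtype.ext
            exact ConcreteCategory.congr_hom ((π i).hom.naturality f) y }⟩
      have hl : l ≫ m = π i := rfl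
      rw [← hl, Category.assoc, Category.assoc, hab]⟩
    haveI := isIso_of_mono_of_epi m
    have h1 := ConcreteCategory.congr_hom
      (congrArg (fun φ : X ⟶ X => φ.hom.app (op U)) (IsIso.inv_hom_id m)) x
    let z := (inv m).hom.app (op U) x
    have hz : z.1 = x := h1
    exact hz ▸ z.2
  · intro h Z a b hab
    ext U x
    refine sep Z _ (h U.unop x) ?_
    rintro V f ⟨i, y, hy⟩
    refine (app_map a f x).symm.trans (Eq.trans ?_ (app_map b f x))
    rw [← hy]
    exact ConcreteCategory.congr_hom (congrArg (fun φ : F i ⟶ Z => φ.hom.app (op V)) (hab i)) y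

theorem jEpi_iff_epi {ι : Type w} {X : Sh J} {F : ι → Sh J} [HasCoproduct F] (π : ∀ i, F i ⟶ X) :
    JEpi π ↔ Epi (Sigma.desc π) := by
  constructor
  · intro h
    refine ⟨fun a b hab => h a b fun i => ?_⟩
    have := congrArg (fun t => Sigma.ι F i ≫ t) hab
    simpa using this
  · intro h Z a b hab
    rw [← cancel_epi (Sigma.desc π)]
    exact Sigma.hom_ext _ _ fun i => by simpa using hab i

/-- A family through which a jointly epimorphic family factors is jointly epimorphic. -/
theorem JEpi.of_factor {ι : Type w} {κ : Type w'} {X : Sh J} {F : ι → Sh J} {G : κ → Sh J}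
    {π : ∀ i, F i ⟶ X} {ρ : ∀ k, G k ⟶ X} (h : JEpi π)
    (hf : ∀ i, ∃ (k : κ) (t : F i ⟶ G k), t ≫ ρ k = π i) : JEpi ρ := fun Z a b hab =>
  h a b fun i => by
    obtain ⟨k, t, ht⟩ := hf i
    rw [← ht, Category.assoc, Category.assoc, hab k]

theorem JEpi.reindex {ι : Type w} {κ : Type w'} {X : Sh J} {F : ι → Sh J} {π : ∀ i, F i ⟶ X}
    (h : JEpi π) (e : κ → ι) (he : Function.Surjective e) : JEpi (fun k => π (e k)) :=
  h.of_factor fun i => by
    obtain ⟨k, rfl⟩ := he i
    exact ⟨k, 𝟙 _, Category.id_comp _⟩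

/-- Composition of jointly epimorphic families. -/
theorem JEpi.comp {ι : Type w} {κ : ι → Type w'} {X : Sh J} {F : ι → Sh J}
    {G : ∀ i, κ i → Sh J} {π : ∀ i, F i ⟶ X} {ρ : ∀ i k, G i k ⟶ F i} (h : JEpi π)
    (hρ : ∀ i, JEpi (ρ i)) : JEpi (fun p : Sigma κ => ρ p.1 p.2 ≫ π p.1) := fun Z a b hab =>
  h a b fun i => hρ i _ _ fun k => by simpa [Category.assoc] using hab ⟨i, k⟩

theorem jEpi_single {X Y : Sh J} (f : Y ⟶ X) [Epi f] : JEpi (fun _ : PUnit.{w + 1} => f) :=
  fun _ a b hab => (cancel_epi f).1 (hab ⟨⟩)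

theorem isPullback_elt {P X Y Z : Sh J} {fst : P ⟶ X} {snd : P ⟶ Y} {f : X ⟶ Z} {g : Y ⟶ Z}
    (h : IsPullback fst snd f g) {V : C} (x : X.obj.obj (op V)) (y : Y.obj.obj (op V))
    (hxy : f.hom.app (op V) x = g.hom.app (op V) y) :
    ∃ z : P.obj.obj (op V), fst.hom.app (op V) z = x ∧ snd.hom.app (op V) z = y :=
  ((Types.isPullback_iff _ _ _ _).1
    ((h.map (sheafToPresheaf J (Type u))).map ((evaluation Cᵒᵖ (Type u)).obj (op V)))).2.2 x y hxy

theorem isPullback_elt_ext {P X Y Z : Sh J} {fst : P ⟶ X} {snd : P ⟶ Y} {f : X ⟶ Z} {g : Y ⟶ Z}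
    (h : IsPullback fst snd f g) {V : C} (z z' : P.obj.obj (op V))
    (h₁ : fst.hom.app (op V) z = fst.hom.app (op V) z')
    (h₂ : snd.hom.app (op V) z = snd.hom.app (op V) z') : z = z' :=
  ((Types.isPullback_iff _ _ _ _).1
    ((h.map (sheafToPresheaf J (Type u))).map ((evaluation Cᵒᵖ (Type u)).obj (op V)))).2.1 z z' ⟨h₁, h₂⟩

/-- Jointly epimorphic families are stable under base change. -/
theorem JEpi.of_isPullback {ι : Type w} {X Y : Sh J} {F P : ι → Sh J} {π : ∀ i, F i ⟶ X}
    (h : JEpi π) {g : Y ⟶ X} {fst : ∀ i, P i ⟶ F i} {snd : ∀ i, P i ⟶ Y}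
    (hP : ∀ i, IsPullback (fst i) (snd i) (π i) g) : JEpi snd := by
  rw [jEpi_iff] at h ⊢
  intro U y
  refine J.superset_covering ?_ (h U (g.hom.app (op U) y))
  rintro V f ⟨i, z, hz⟩
  obtain ⟨w, -, hw⟩ := isPullback_elt (hP i) z (Y.obj.map f.op y) (by rw [app_map]; exact hz)
  exact ⟨i, w, hw⟩

theorem JEpi.pullback {ι : Type w} {X Y : Sh J} {F : ι → Sh J} {π : ∀ i, F i ⟶ X}
    (h : JEpi π) (g : Y ⟶ X) : JEpi (fun i => pullback.snd (π i) g) :=
  h.of_isPullback fun _ => IsPullback.of_hasPullback _ _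

theorem JEpi.pullback' {ι : Type w} {X Y : Sh J} {F : ι → Sh J} {π : ∀ i, F i ⟶ X}
    (h : JEpi π) (g : Y ⟶ X) : JEpi (fun i => pullback.fst g (π i)) :=
  h.of_isPullback fun _ => (IsPullback.of_hasPullback _ _).flip

/-- In a topos, a monomorphic member of a singleton covering family is an isomorphism. -/
theorem isIso_of_mono_jEpi {X Y : Sh J} (f : Y ⟶ X) [Mono f] (h : JEpi (fun _ : PUnit.{1} => f)) :
    IsIso f := by
  haveI : Epi f := ⟨fun a b hab => h a b fun _ => hab⟩
  exact isIso_of_mono_of_epi f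

/-! ### Initial objects and coproducts -/

theorem jEpi_of_isInitial {ι : Type w} {X : Sh J} (hX : IsInitial X) {F : ι → Sh J}
    (π : ∀ i, F i ⟶ X) : JEpi π := fun _ a b _ => hX.hom_ext a b

/-- Coproduct presentation by sheafification. -/
theorem inj_app_eq {ι : Type u} {F : ι → Sh J} {c : Cofan F} (hc : IsColimit c) :
    ∃ (P : Cᵒᵖ ⥤ Type u) (d : Cofan (fun i => (F i).obj)) (_ : IsColimit d) (η : d.pt ⟶ c.pt.obj),
      P = d.pt ∧ Presheaf.IsLocallyInjective J η ∧ ∀ i, d.inj i ≫ η = (c.inj i).hom := by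
  let d : Cofan (fun i => (F i).obj) := Cofan.mk _ (Sigma.ι (fun i => (F i).obj))
  have hd : IsColimit d := coproductIsCoproduct _
  let adj := sheafificationAdjunction J (Type u)
  let T : Sh J := (presheafToSheaf J (Type u)).obj d.pt
  let t : ∀ i, F i ⟶ T := fun i => ⟨d.inj i ≫ adj.unit.app d.pt⟩
  let η : d.pt ⟶ c.pt.obj := Cofan.IsColimit.desc hd fun i => (c.inj i).hom
  let ψ : c.pt ⟶ T := Cofan.IsColimit.desc hc t
  have hψ : η ≫ ψ.hom = adj.unit.app d.pt := Cofan.IsColimit.hom_ext hd _ _ fun i => by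
    rw [← Category.assoc, Cofan.IsColimit.fac]
    exact congrArg (fun φ : F i ⟶ T => φ.hom) (Cofan.IsColimit.fac hc t i)
  refine ⟨d.pt, d, hd, η, rfl, ?_, fun i => Cofan.IsColimit.fac hd _ i⟩
  have : Presheaf.IsLocallyInjective J (η ≫ ψ.hom) := by
    rw [hψ]
    exact inferInstanceAs (Presheaf.IsLocallyInjective J (toSheafify J d.pt))
  exact Presheaf.isLocallyInjective_of_isLocallyInjective J η ψ.hom

theorem evalCofan {ι : Type u} {P : ι → Cᵒᵖ ⥤ Type u} {d : Cofan P} (hd : IsColimit d) (V : Cᵒᵖ) :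
    Nonempty (IsColimit (Cofan.mk (d.pt.obj V) (fun i => (d.inj i).app V))) :=
  ⟨isColimitCofanMkObjOfIsColimit ((evaluation Cᵒᵖ (Type u)).obj V) (fun i => P i)
    (fun i => d.inj i) (hd.ofIsoColimit (Cofan.ext (Iso.refl _)))⟩

/-- The injections of a coproduct of sheaves are monomorphisms. -/
theorem inj_injective {ι : Type u} {F : ι → Sh J} {c : Cofan F} (hc : IsColimit c) (i : ι)
    {U : C} {y y' : (F i).obj.obj (op U)}
    (h : (c.inj i).hom.app (op U) y = (c.inj i).hom.app (op U) y') : y = y' := by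
  obtain ⟨-, d, hd, η, -, hη, he⟩ := inj_app_eq hc
  have h' : η.app (op U) ((d.inj i).app (op U) y) = η.app (op U) ((d.inj i).app (op U) y') := by
    rw [← NatTrans.comp_app_apply, ← NatTrans.comp_app_apply, he]
    exact h
  refine sep (F i) _ (Presheaf.equalizerSieve_mem J η _ _ h') ?_
  intro V f hf
  obtain ⟨hl⟩ := evalCofan hd (op V)
  refine Cofan.inj_injective_of_isColimit hl i ?_
  change (d.inj i).app (op V) _ = (d.inj i).app (op V) _
  rw [NatTrans.naturality_apply, NatTrans.naturality_apply]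
  exact hf

theorem mono_inj {ι : Type u} {F : ι → Sh J} {c : Cofan F} (hc : IsColimit c) (i : ι) :
    Mono (c.inj i) := by
  haveI : ∀ V, Mono ((c.inj i).hom.app V) := fun V => by
    rw [mono_iff_injective]
    exact fun y y' h => inj_injective hc i h
  exact (sheafToPresheaf J (Type u)).mono_of_mono_map (NatTrans.mono_of_mono_app (c.inj i).hom)

/-- Distinct summands of a coproduct of sheaves are disjoint. -/
theorem bot_mem_of_inj_eq {ι : Type u} {F : ι → Sh J} {c : Cofan F} (hc : IsColimit c) {i j : ι}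
    (hij : i ≠ j) {U : C} {y : (F i).obj.obj (op U)} {y' : (F j).obj.obj (op U)}
    (h : (c.inj i).hom.app (op U) y = (c.inj j).hom.app (op U) y') : (⊥ : Sieve U) ∈ J U := by
  obtain ⟨-, d, hd, η, -, hη, he⟩ := inj_app_eq hc
  have h' : η.app (op U) ((d.inj i).app (op U) y) = η.app (op U) ((d.inj j).app (op U) y') := by
    rw [← NatTrans.comp_app_apply, ← NatTrans.comp_app_apply, he, he]
    exact h
  refine J.superset_covering ?_ (Presheaf.equalizerSieve_mem J η _ _ h')
  intro V f hf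
  obtain ⟨hl⟩ := evalCofan hd (op V)
  refine absurd (Cofan.eq_of_inj_apply_eq_of_isColimit hl ((F i).obj.map f.op y)
    ((F j).obj.map f.op y') ?_) hij
  change (d.inj i).app (op V) _ = (d.inj j).app (op V) _
  rw [NatTrans.naturality_apply, NatTrans.naturality_apply]
  exact hf

theorem jEpi_cofan {ι : Type w} {F : ι → Sh J} {c : Cofan F} (hc : IsColimit c) : JEpi c.inj :=
  fun _ a b hab => Cofan.IsColimit.hom_ext hc a b hab

/-- An object covered by the empty family is initial. -/
theorem isInitial_of_bot_mem {X : Sh J}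
    (h : ∀ (U : C), X.obj.obj (op U) → (⊥ : Sieve U) ∈ J U) : Nonempty (IsInitial X) := by
  refine ⟨IsInitial.ofUniqueHom (fun Z =>
    ⟨{ app := fun V => ↾fun x => ((isSheaf_iff_isSheaf_of_type J _).1 Z.property ⊥
          (h V.unop x)).amalgamate (fun _ _ hf => hf.elim) (fun _ _ _ _ _ _ _ hf => hf.elim)
       naturality := fun V W f => ?_ }⟩) fun Z m => ?_⟩
  · ext x
    exact sep Z _ (h W.unop (X.obj.map f x)) (fun _ _ hf => hf.elim)
  · ext V x
    exact sep Z _ (h V.unop x) (fun _ _ hf => hf.elim)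

theorem bot_mem_of_isInitial {X : Sh J} (hX : IsInitial X) (U : C) (x : X.obj.obj (op U)) :
    (⊥ : Sieve U) ∈ J U := by
  refine J.superset_covering ?_
    ((jEpi_iff (F := fun i : PEmpty.{1} => i.elim) (fun i => i.elim)).1 (jEpi_of_isInitial hX _) U x)
  rintro V f ⟨i, -, -⟩
  exact i.elim

theorem isInitial_of_jEpi_empty {ι : Type w} [IsEmpty ι] {X : Sh J} {F : ι → Sh J}
    {π : ∀ i, F i ⟶ X} (h : JEpi π) : Nonempty (IsInitial X) :=
  isInitial_of_bot_mem fun U x => J.superset_covering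
    (by rintro V f ⟨i, -, -⟩; exact isEmptyElim i) ((jEpi_iff π).1 h U x)

/-- Initial objects are strict. -/
theorem isInitial_of_hom {X Y : Sh J} (hX : IsInitial X) (f : Y ⟶ X) : Nonempty (IsInitial Y) :=
  isInitial_of_bot_mem fun U y => bot_mem_of_isInitial hX U (f.hom.app (op U) y)

theorem isInitial_of_cofan_sq {ι : Type u} {F : ι → Sh J} {c : Cofan F} (hc : IsColimit c)
    {i j : ι} (hij : i ≠ j) {T : Sh J} (a : T ⟶ F i) (b : T ⟶ F j)
    (h : a ≫ c.inj i = b ≫ c.inj j) : Nonempty (IsInitial T) :=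
  isInitial_of_bot_mem fun U x => bot_mem_of_inj_eq hc hij (y := a.hom.app (op U) x)
    (y' := b.hom.app (op U) x)
    (ConcreteCategory.congr_hom (congrArg (fun φ : T ⟶ c.pt => φ.hom.app (op U)) h) x)

end Groth.Agent.H15Site.TFin
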