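import Groth.Agent.H15Site.ToposFin.QS
import Groth.Agent.H15Site.CofanSheafify
import Groth.Prelude.Def_ToposFin2

/-!
# Sheafified representables; generating sets
-/

set_option autoImplicit false

universe u w w'

open CategoryTheory CategoryTheory.Limits Opposite

namespace Groth.Agent.H15Site.TFin

open ToposFin

variable {C : Type u} [SmallCategory C] {J : GrothendieckTopology C}

theorem isQCHom_of_finite_source {κ : Type w} [Finite κ] {Y Z : Sh J} (g : Y ⟶ Z) {X : κ → Sh J}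
    {f : ∀ k, X k ⟶ Y} (hf : JEpi f) (h : ∀ k, IsQCHom (f k ≫ g)) : IsQCHom g := fun _ c hT =>
  isQC_of_finite (fun k => pullback.snd (f k) (pullback.fst g c)) (hf.pullback _) fun k =>
    isQC_of_iso (((IsPullback.of_hasPullback (f k) (pullback.fst g c)).flip.paste_horiz
      (IsPullback.of_hasPullback g c).flip).flip.isoPullback).symm (h k _ c hT)

/-- The morphism of sheafified representables attached to an arrow. -/
noncomputable abbrev epsMap {X Y : C} (f : X ⟶ Y) : eps J X ⟶ eps J Y :=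
  (presheafToSheaf J (Type u)).map (yoneda.map f)

/-- The section of `eps J X` attached to an arrow into `X`. -/
noncomputable def toEps {X W : C} (f : W ⟶ X) : (eps J X).obj.obj (op W) :=
  (toSheafify J (yoneda.obj X)).app (op W) f

theorem toEps_map {X W V : C} (f : W ⟶ X) (g : V ⟶ W) :
    (eps J X).obj.map g.op (toEps (J := J) f) = toEps (g ≫ f) :=
  (ConcreteCategory.congr_hom ((toSheafify J (yoneda.obj X)).naturality g.op) f).symm

theorem app_toEps {X : C} {Y : Sh J} (φ : eps J X ⟶ Y) {W : C} (f : W ⟶ X) :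
    φ.hom.app (op W) (toEps f) = Y.obj.map f.op (sheafifyYonedaHomEquiv J X Y φ) := by
  have h1 : sheafifyYonedaHomEquiv J X Y φ = φ.hom.app (op X) (toEps (𝟙 X)) := rfl
  rw [h1, ← app_map, toEps_map, Category.comp_id]

theorem homEquiv_symm_toEps {X : C} {Y : Sh J} (y : Y.obj.obj (op X)) {W : C} (f : W ⟶ X) :
    ((sheafifyYonedaHomEquiv J X Y).symm y).hom.app (op W) (toEps f) = Y.obj.map f.op y := by
  rw [app_toEps, Equiv.apply_symm_apply]

theorem epsMap_eq {X W : C} (f : W ⟶ X) :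
    epsMap (J := J) f = (sheafifyYonedaHomEquiv J W (eps J X)).symm (toEps f) := by
  rw [Equiv.eq_symm_apply]
  have h := sheafifyYonedaHomEquiv_naturality J f (eps J X) (𝟙 _)
  rw [Category.comp_id] at h
  refine h.trans ?_
  have e : sheafifyYonedaHomEquiv J X (eps J X) (𝟙 _) = toEps (𝟙 X) := rfl
  rw [e, toEps_map, Category.comp_id]

theorem epsMap_toEps {X W V : C} (f : W ⟶ X) (g : V ⟶ W) :
    (epsMap (J := J) f).hom.app (op V) (toEps g) = toEps (g ≫ f) := by
  rw [epsMap_eq, homEquiv_symm_toEps, toEps_map]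

theorem toEps_surj {X W : C} (x : (eps J X).obj.obj (op W)) :
    ∃ S ∈ J W, ∀ ⦃V : C⦄ (g : V ⟶ W), S g →
      ∃ f : V ⟶ X, toEps f = (eps J X).obj.map g.op x :=
  ⟨Presheaf.imageSieve (toSheafify J (yoneda.obj X)) (U := W) x,
    Presheaf.imageSieve_mem J (toSheafify J (yoneda.obj X)) (U := op W) x, fun _ _ h => h⟩

theorem toEps_eq {X W : C} {f f' : W ⟶ X} (h : toEps (J := J) f = toEps f') :
    ∃ S ∈ J W, ∀ ⦃V : C⦄ (g : V ⟶ W), S g → g ≫ f = g ≫ f' :=
  ⟨Presheaf.equalizerSieve (F := yoneda.obj X) (X := op W) f f',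
    Presheaf.equalizerSieve_mem J (toSheafify J (yoneda.obj X)) f f' h, fun _ _ h => h⟩

/-- A covering family gives a jointly epimorphic family of sheafified representables. -/
theorem jEpi_epsMap {X : C} {ι : Type w} {V : ι → C} (g : ∀ i, V i ⟶ X)
    (h : Sieve.ofArrows V g ∈ J X) : JEpi (fun i => epsMap (J := J) (g i)) := by
  intro Z a b hab
  apply (sheafifyYonedaHomEquiv J X Z).injective
  refine sep Z _ h ?_
  rintro W f ⟨_, k, _, ⟨i⟩, rfl⟩
  have e := congrArg (fun φ => Z.obj.map k.op (sheafifyYonedaHomEquiv J (V i) Z φ)) (hab i)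
  simp only [sheafifyYonedaHomEquiv_naturality, ← Functor.map_comp_apply, ← op_comp] at e
  exact e

/-- Every object over `eps J X` is covered by sheafified representables over arrows into `X`. -/
theorem exists_repCover {X : C} {Y : Sh J} (c : Y ⟶ eps J X) :
    ∃ (ι : Type u) (V : ι → C) (f : ∀ i, V i ⟶ X) (π : ∀ i, eps J (V i) ⟶ Y),
      JEpi π ∧ ∀ i, π i ≫ c = epsMap (f i) := by
  let ι := Σ V : C, { p : Y.obj.obj (op V) × (V ⟶ X) // c.hom.app (op V) p.1 = toEps p.2 }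
  refine ⟨ι, fun i => i.1, fun i => i.2.1.2,
    fun i => (sheafifyYonedaHomEquiv J i.1 Y).symm i.2.1.1, ?_, fun i => ?_⟩
  · rw [jEpi_iff]
    intro U y
    obtain ⟨S, hS, hS'⟩ := toEps_surj (c.hom.app (op U) y)
    refine J.superset_covering ?_ hS
    intro V g hg
    obtain ⟨f, hf⟩ := hS' g hg
    refine ⟨⟨V, (Y.obj.map g.op y, f), by rw [app_map]; exact hf.symm⟩, toEps (𝟙 V), ?_⟩
    rw [homEquiv_symm_toEps]
    simp
  · apply (sheafifyYonedaHomEquiv J i.1 (eps J X)).injective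
    rw [sheafifyYonedaHomEquiv_naturality_right, Equiv.apply_symm_apply, epsMap_eq,
      Equiv.apply_symm_apply]
    exact i.2.2

variable (J) in
/-- The sheafified representables generate. -/
theorem gen_eps : Gen (fun X : C => eps J X) := fun Y => by
  refine ⟨Σ V : C, Y.obj.obj (op V), fun i => i.1,
    fun i => (sheafifyYonedaHomEquiv J i.1 Y).symm i.2, (jEpi_iff _).2 fun U y => ?_⟩
  refine J.superset_covering ?_ (J.top_mem U)
  intro V g _
  refine ⟨⟨V, Y.obj.map g.op y⟩, toEps (𝟙 V), ?_⟩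
  rw [homEquiv_symm_toEps]
  simp

theorem isQC_eps_iff (X : C) : IsQC (eps J X) ↔ IsQCSite J X := by
  classical
  constructor
  · intro h S hS
    let ι := Σ V : C, { g : V ⟶ X // S g }
    have hcov : Sieve.ofArrows (fun i : ι => i.1) (fun i => i.2.1) ∈ J X :=
      J.superset_covering (fun V g hg => ⟨_, 𝟙 _, g, ⟨(⟨V, g, hg⟩ : ι)⟩, Category.id_comp _⟩) hS
    obtain ⟨s, hs⟩ := isQC_iff.1 h ι _ _ (jEpi_epsMap _ hcov)
    refine ⟨Fintype.card s, fun k => ((Fintype.equivFin s).symm k).1.1,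
      fun k => ((Fintype.equivFin s).symm k).1.2.1, fun k => ((Fintype.equivFin s).symm k).1.2.2, ?_⟩
    refine J.transitive ((jEpi_iff _).1 hs X (toEps (𝟙 X))) _ ?_
    rintro W w ⟨i, y, hy⟩
    obtain ⟨S₁, hS₁, hS₁'⟩ := toEps_surj y
    rw [toEps_map, Category.comp_id] at hy
    refine J.transitive hS₁ _ fun V v hv => ?_
    obtain ⟨k, hk⟩ := hS₁' v hv
    have e : toEps (J := J) (k ≫ i.1.2.1) = toEps (v ≫ w) := by
      rw [← epsMap_toEps, hk, app_map, hy, toEps_map]
    obtain ⟨S₂, hS₂, hS₂'⟩ := toEps_eq e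
    refine J.superset_covering ?_ hS₂
    intro T t ht
    simp only [Sieve.pullback_apply, Category.assoc, ← hS₂' t ht]
    obtain ⟨j, rfl⟩ := (Fintype.equivFin s).symm.surjective i
    exact ⟨_, t ≫ k, _, ⟨j⟩, by simp [Category.assoc]⟩
  · intro h
    rw [isQC_iff]
    intro ι F π hπ
    obtain ⟨n, V, g, hg, hcov⟩ := h _ ((jEpi_iff π).1 hπ X (toEps (𝟙 X)))
    choose i y hy using hg
    refine ⟨Finset.univ.image i, (jEpi_epsMap g hcov).of_factor fun k => ?_⟩
    refine ⟨⟨i k, Finset.mem_image_of_mem i (Finset.mem_univ k)⟩,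
      (sheafifyYonedaHomEquiv J (V k) _).symm (y k), ?_⟩
    apply (sheafifyYonedaHomEquiv J (V k) _).injective
    rw [sheafifyYonedaHomEquiv_naturality_right, Equiv.apply_symm_apply, hy, epsMap_eq,
      Equiv.apply_symm_apply, toEps_map, Category.comp_id]

theorem isPullback_eps {P X Y Z : C} {a : P ⟶ X} {b : P ⟶ Y} {f : X ⟶ Z} {g : Y ⟶ Z}
    (h : IsPullback a b f g) :
    IsPullback (epsMap (J := J) a) (epsMap b) (epsMap f) (epsMap g) :=
  (h.map yoneda).map (presheafToSheaf J (Type u))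

section QCSite

variable [HasPullbacks C] (hC : ∀ X : C, IsQCSite J X)
include hC

theorem isQC_eps (X : C) : IsQC (eps J X) := (isQC_eps_iff X).2 (hC X)

theorem hasQCGenerators_eps : HasQCGenerators J :=
  gen_hasQCGenerators (fun X => isQC_eps hC X) (gen_eps J)

theorem isQC_pullback_epsMap {X Y Z : C} (f : X ⟶ Z) (g : Y ⟶ Z) :
    IsQC (pullback (epsMap (J := J) f) (epsMap g)) :=
  isQC_of_iso (isPullback_eps (J := J) (IsPullback.of_hasPullback f g)).isoPullback (isQC_eps hC _)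

theorem isQCHom_epsMap {X Y : C} (f : X ⟶ Y) : IsQCHom (epsMap (J := J) f) := by
  refine isQCHom_of_cover _ fun T c hT => ?_
  obtain ⟨ι, V, g, π, hπ, hπ'⟩ := exists_repCover c
  obtain ⟨s, hs⟩ := isQC_iff.1 hT _ _ _ hπ
  exact ⟨s, inferInstance, _, _, hs, fun k =>
    isQC_of_iso (pullback.congrHom rfl (hπ' k.1).symm) (isQC_pullback_epsMap hC f (g k.1))⟩

theorem isCoherent_eps (X : C) : IsCoherent (eps J X) := by
  refine ⟨isQC_eps hC X, isQS_of_gen (gen_eps J) fun U a => ?_⟩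
  obtain ⟨ι, V, f, π, hπ, hπ'⟩ := exists_repCover a
  obtain ⟨s, hs⟩ := isQC_iff.1 (isQC_eps hC U) _ _ _ hπ
  exact isQCHom_of_finite_source a hs fun k => hπ' k.1 ▸ isQCHom_epsMap hC (f k.1)

theorem isQSHom_to_eps {X : C} {G : Sh J} (g : G ⟶ eps J X) (hG : IsQS G) : IsQSHom g := by
  obtain ⟨ι, V, f, π, hπ, hπ'⟩ := exists_repCover g
  refine isQSHom_of_cover_qs (hasQCGenerators_eps hC) g hπ (fun i => isQC_eps hC _) (fun i j => ?_) hG
  exact isQS_of_iso ((isPullback_eps (J := J) (IsPullback.of_hasPullback (f i) (f j))).isoPullback ≪≫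
    (pullback.congrHom (hπ' i) (hπ' j)).symm) (isCoherent_eps hC _).2

end QCSite

/-! ### Generating sets -/

theorem isGenerating_iff {S : Set (Sh J)} : IsGenerating S ↔ Gen (fun K : S => K.1) := by
  constructor
  · intro h X
    obtain ⟨ι, F, π, hF, hπ⟩ := h X
    exact ⟨ι, fun i => ⟨F i, hF i⟩, π, fun Z a b => hπ Z a b⟩
  · intro h X
    obtain ⟨ι, a, π, hπ⟩ := h X
    exact ⟨ι, fun i => (a i).1, π, fun i => (a i).2, fun Z x y => hπ x y⟩

theorem exists_cover_mem {S : Set (Sh J)} (hgen : IsGenerating S) (X : Sh J) :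
    ∃ (ι : Type u) (F : ι → Sh J) (π : ∀ i, F i ⟶ X), (∀ i, F i ∈ S) ∧ JEpi π := by
  obtain ⟨ι, F, π, hF, hπ⟩ := hgen X
  exact ⟨ι, F, π, hF, fun Z a b => hπ Z a b⟩

theorem hasQCGenerators_of_set {S : Set (Sh J)} (hqc : ∀ K ∈ S, IsQC K) (hgen : IsGenerating S) :
    HasQCGenerators J := gen_hasQCGenerators (fun K : S => hqc K.1 K.2) (isGenerating_iff.1 hgen)

theorem isQC_pullback_mem {S : Set (Sh J)} (hqc : ∀ K ∈ S, IsQC K) (hpb : ClosedUnderPullbacks S)
    {K L M : Sh J} (f : K ⟶ M) (g : L ⟶ M) (hK : K ∈ S) (hL : L ∈ S) (hM : M ∈ S) :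
    IsQC (pullback f g) := by
  obtain ⟨P, p, q, hP, sq⟩ := hpb f g hK hL hM
  exact isQC_of_iso sq.isoPullback (hqc P hP)

theorem isCoherent_of_mem {S : Set (Sh J)} (hqc : ∀ K ∈ S, IsQC K) (hgen : IsGenerating S)
    (hpb : ClosedUnderPullbacks S) {K : Sh J} (hK : K ∈ S) : IsCoherent K := by
  refine ⟨hqc K hK, isQS_of_gen (isGenerating_iff.1 hgen) fun L a => ?_⟩
  refine isQCHom_of_cover a fun T c hT => ?_
  obtain ⟨ι, F, π, hF, hπ⟩ := exists_cover_mem hgen T
  obtain ⟨s, hs⟩ := isQC_iff.1 hT _ _ _ hπ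
  exact ⟨s, inferInstance, _, _, hs, fun k => isQC_pullback_mem hqc hpb a _ L.2 (hF k.1) hK⟩

end Groth.Agent.H15Site.TFin
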