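import Groth.Agent.H15Site.ToposFin.Epi
import Mathlib.CategoryTheory.MorphismProperty.Limits
import Mathlib.CategoryTheory.Limits.Shapes.Diagonal
import Mathlib.Data.Fintype.Basic
import Mathlib.Data.Finset.Sigma
import Mathlib.Data.Fintype.Sigma

/-!
# Quasi-compact objects and morphisms in a topos of sheaves of sets
-/

set_option autoImplicit false

universe u w w'

open CategoryTheory CategoryTheory.Limits Opposite

namespace Groth.Agent.H15Site.TFin

open ToposFin

variable {C : Type u} [SmallCategory C] {J : GrothendieckTopology C}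

theorem isQC_iff {X : Sh J} : IsQC X ↔ ∀ (ι : Type u) (F : ι → Sh J) (π : ∀ i, F i ⟶ X),
    JEpi π → ∃ s : Finset ι, JEpi (fun i : s => π i) := by
  constructor
  · intro h ι F π hπ
    obtain ⟨s, hs⟩ := h ι F π ((jEpi_iff_epi π).1 hπ)
    exact ⟨s, (jEpi_iff_epi (fun i : s => π i)).2 hs⟩
  · intro h ι F π hπ
    obtain ⟨s, hs⟩ := h ι F π ((jEpi_iff_epi π).2 hπ)
    exact ⟨s, (jEpi_iff_epi (fun i : s => π i)).1 hs⟩

/-- A finitely covered object with quasi-compact pieces is quasi-compact. -/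
theorem isQC_of_finite {κ : Type w} [Finite κ] {X : Sh J} {G : κ → Sh J} (π : ∀ k, G k ⟶ X)
    (hπ : JEpi π) (hG : ∀ k, IsQC (G k)) : IsQC X := by
  classical
  haveI := Fintype.ofFinite κ
  rw [isQC_iff]
  intro ι F ρ hρ
  choose s hs using fun k => isQC_iff.1 (hG k) ι _ _ (hρ.pullback (π k))
  refine ⟨Finset.univ.biUnion s, fun Z a b hab => hπ a b fun k => hs k _ _ fun i => ?_⟩
  have hi : (i : ι) ∈ Finset.univ.biUnion s := Finset.mem_biUnion.2 ⟨k, Finset.mem_univ _, i.2⟩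
  simp only [← Category.assoc, ← pullback.condition]
  simp only [Category.assoc, hab ⟨i, hi⟩]

theorem isQC_of_epi {X Y : Sh J} (f : Y ⟶ X) [Epi f] (hY : IsQC Y) : IsQC X :=
  isQC_of_finite (κ := PUnit.{1}) _ (jEpi_single f) fun _ => hY

theorem isQC_of_iso {X Y : Sh J} (e : Y ≅ X) (hY : IsQC Y) : IsQC X := isQC_of_epi e.hom hY

theorem isQC_iff_of_iso {X Y : Sh J} (e : Y ≅ X) : IsQC Y ↔ IsQC X :=
  ⟨isQC_of_iso e, isQC_of_iso e.symm⟩

theorem isQC_of_isInitial {X : Sh J} (hX : IsInitial X) : IsQC X :=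
  isQC_of_finite (fun e : PEmpty.{1} => (e.elim : X ⟶ X)) (jEpi_of_isInitial hX _) fun e => e.elim

/-- A quasi-compact summand-like piece: if `X` is quasi-compact and `m : T ⟶ X` is a monomorphism
which together with a family disjoint from it is jointly epimorphic, then `T` is quasi-compact. -/
theorem isQC_of_summand {X T : Sh J} (hX : IsQC X) {ι : Type u} {F : ι → Sh J} (m : T ⟶ X) [Mono m]
    (π : ∀ i, F i ⟶ X) (h : JEpi (Sum.rec (fun _ => m) π :
      ∀ k : PUnit.{u + 1} ⊕ ι, Sum.elim (fun _ => T) F k ⟶ X))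
    (hd : ∀ i, Nonempty (IsInitial (pullback (π i) m))) : IsQC T := by
  classical
  rw [isQC_iff]
  intro κ G ρ hρ
  have hall : JEpi (Sum.rec (fun k => ρ k ≫ m) π : ∀ k : κ ⊕ ι, Sum.elim G F k ⟶ X) := by
    intro Z a b hab
    refine h a b ?_
    rintro (_ | i)
    · exact hρ _ _ fun k => by simpa [Category.assoc] using hab (Sum.inl k)
    · exact hab (Sum.inr i)
  obtain ⟨s, hs⟩ := isQC_iff.1 hX _ _ _ hall
  refine ⟨s.toLeft, fun Z a b hab => hs.pullback m a b ?_⟩
  rintro ⟨(k | i), hk⟩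
  · have e : pullback.fst (ρ k ≫ m) m ≫ ρ k = pullback.snd (ρ k ≫ m) m := by
      rw [← cancel_mono m, Category.assoc, pullback.condition]
    have hk' := hab ⟨k, Finset.mem_toLeft.2 hk⟩
    calc pullback.snd (ρ k ≫ m) m ≫ a = pullback.fst (ρ k ≫ m) m ≫ ρ k ≫ a := by
          rw [← e, Category.assoc]
      _ = pullback.fst (ρ k ≫ m) m ≫ ρ k ≫ b := by rw [hk']
      _ = pullback.snd (ρ k ≫ m) m ≫ b := by rw [← e, Category.assoc]
  · exact (hd i).some.hom_ext _ _

/-- The class of quasi-compact morphisms. -/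
def qc (J : GrothendieckTopology C) : MorphismProperty (Sh J) := fun _ _ f => IsQCHom f

theorem isQCHom_iff {X Y : Sh J} (f : X ⟶ Y) : IsQCHom f ↔ ∀ ⦃P Y' : Sh J⦄ (g' : P ⟶ X)
    (f' : P ⟶ Y') (g : Y' ⟶ Y), IsPullback g' f' f g → IsQC Y' → IsQC P :=
  ⟨fun h _ _ _ _ g sq hY' => isQC_of_iso sq.isoPullback.symm (h _ g hY'),
    fun h _ g hY' => h _ _ g (IsPullback.of_hasPullback f g) hY'⟩

theorem isQC_of_isPullback {P X Y Y' : Sh J} {g' : P ⟶ X} {f' : P ⟶ Y'} {f : X ⟶ Y} {g : Y' ⟶ Y}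
    (h : IsPullback g' f' f g) (hf : IsQCHom f) (hY' : IsQC Y') : IsQC P :=
  (isQCHom_iff f).1 hf _ _ _ h hY'

instance : (qc J).IsStableUnderBaseChange where
  of_isPullback {X Y Y' S f g f' g'} sq hg := by
    refine (isQCHom_iff _).2 fun P T a b c sq' hT => ?_
    exact isQC_of_isPullback (sq'.paste_horiz sq) hg hT

instance : (qc J).IsMultiplicative where
  id_mem X := (isQCHom_iff _).2 fun P T a b c sq hT => by
    haveI : IsIso b := MorphismProperty.of_isPullback (P := MorphismProperty.isomorphisms _) sq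
      (inferInstanceAs (IsIso (𝟙 X)))
    exact isQC_of_iso (asIso b).symm hT
  comp_mem f g hf hg := (isQCHom_iff _).2 fun P T a b c sq hT => by
    let pb := IsPullback.of_hasPullback g c
    refine isQC_of_isPullback (g' := a) (f' := pb.lift (a ≫ f) b (by simpa using sq.w))
      (IsPullback.of_bot (by simpa using sq) (by simp) pb) hf (isQC_of_isPullback pb hg hT)

theorem isQCHom_of_isIso {X Y : Sh J} (f : X ⟶ Y) [IsIso f] : IsQCHom f :=
  MorphismProperty.of_isIso (qc J) f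

theorem isQCHom_comp {X Y Z : Sh J} {f : X ⟶ Y} {g : Y ⟶ Z} (hf : IsQCHom f) (hg : IsQCHom g) :
    IsQCHom (f ≫ g) := (qc J).comp_mem f g hf hg

theorem isQCHom_baseChange {P X Y S : Sh J} {a : P ⟶ X} {b : P ⟶ Y} {f : X ⟶ S} {g : Y ⟶ S}
    (sq : IsPullback a b f g) (hf : IsQCHom f) : IsQCHom b :=
  MorphismProperty.of_isPullback (P := qc J) sq hf

theorem isQCHom_baseChange' {P X Y S : Sh J} {a : P ⟶ X} {b : P ⟶ Y} {f : X ⟶ S} {g : Y ⟶ S}
    (sq : IsPullback a b f g) (hg : IsQCHom g) : IsQCHom a :=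
  MorphismProperty.of_isPullback (P := qc J) sq.flip hg

/-- The source of a quasi-compact morphism to a quasi-compact object is quasi-compact. -/
theorem isQC_source {X Y : Sh J} (f : X ⟶ Y) (hf : IsQCHom f) (hY : IsQC Y) : IsQC X :=
  isQC_of_isPullback (IsPullback.of_id_fst (f := f)) hf hY

/-- A morphism from a quasi-compact to a quasi-separated object is quasi-compact. -/
theorem isQCHom_of_isQC_isQS {X Y : Sh J} (f : X ⟶ Y) (hX : IsQC X) (hY : IsQS Y) : IsQCHom f :=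
  fun Y' g hY' => hY X Y' f g hX hY'

theorem isQS_iff {Y : Sh J} : IsQS Y ↔ ∀ (X : Sh J) (a : X ⟶ Y), IsQC X → IsQCHom a :=
  ⟨fun h _ a hX => isQCHom_of_isQC_isQS a hX h, fun h _ Z a b hY hZ => h _ a hY Z b hZ⟩

theorem isQC_pullback_symm {X Y Z : Sh J} (f : X ⟶ Z) (g : Y ⟶ Z) (h : IsQC (pullback f g)) :
    IsQC (pullback g f) := isQC_of_iso (pullbackSymmetry f g) h

/-- Criterion for quasi-compactness of a morphism: every quasi-compact object over the target has a
finite cover with quasi-compact inverse images. -/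
theorem isQCHom_of_cover {X Y : Sh J} (f : X ⟶ Y)
    (h : ∀ (Y' : Sh J) (g : Y' ⟶ Y), IsQC Y' → ∃ (κ : Type u) (_ : Finite κ) (T : κ → Sh J)
      (ρ : ∀ k, T k ⟶ Y'), JEpi ρ ∧ ∀ k, IsQC (pullback f (ρ k ≫ g))) : IsQCHom f := by
  intro Y' g hY'
  obtain ⟨κ, _, T, ρ, hρ, hk⟩ := h Y' g hY'
  refine isQC_of_finite (fun k => pullback.snd (ρ k) (pullback.snd f g))
    (hρ.pullback (pullback.snd f g)) fun k => ?_
  refine isQC_of_iso (X := pullback (ρ k) (pullback.snd f g)) ?_ (hk k)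
  exact ((((IsPullback.of_hasPullback (ρ k) (pullback.snd f g)).flip.paste_horiz
    (IsPullback.of_hasPullback f g)).isoPullback)).symm

/-- A family of quasi-compact objects covering every object. -/
def Gen {α : Type w} (G : α → Sh J) : Prop :=
  ∀ X : Sh J, ∃ (ι : Type u) (a : ι → α) (π : ∀ i, G (a i) ⟶ X), JEpi π

/-- Refine a covering family of a quasi-compact object to a finite one by quasi-compact objects. -/
theorem exists_finite_refine (hE : HasQCGenerators J) {X : Sh J} (hX : IsQC X) {ι : Type u}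
    {F : ι → Sh J} (π : ∀ i, F i ⟶ X) (hπ : JEpi π) :
    ∃ (κ : Type u) (_ : Finite κ) (T : κ → Sh J) (ρ : ∀ k, T k ⟶ X), JEpi ρ ∧
      ∀ k, IsQC (T k) ∧ ∃ (i : ι) (t : T k ⟶ F i), t ≫ π i = ρ k := by
  choose κ G θ hG hθ using fun i => hE (F i)
  have hc := hπ.comp (fun i => (jEpi_iff_epi (θ i)).2 (hθ i))
  obtain ⟨s, hs⟩ := isQC_iff.1 hX _ _ _ hc
  exact ⟨s, inferInstance, fun k => G k.1.1 k.1.2, fun k => θ k.1.1 k.1.2 ≫ π k.1.1, hs,
    fun k => ⟨hG _ _, k.1.1, θ k.1.1 k.1.2, rfl⟩⟩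

/-- Quasi-compactness of a morphism descends along jointly epimorphic families. -/
theorem isQCHom_of_jEpi (hE : HasQCGenerators J) {X Y : Sh J} (f : X ⟶ Y) {ι : Type u}
    {Yi P : ι → Sh J} {g : ∀ i, Yi i ⟶ Y} (hg : JEpi g) {g' : ∀ i, P i ⟶ X} {f' : ∀ i, P i ⟶ Yi i}
    (sq : ∀ i, IsPullback (g' i) (f' i) f (g i)) (h : ∀ i, IsQCHom (f' i)) : IsQCHom f := by
  refine isQCHom_of_cover f fun Y' c hY' => ?_
  obtain ⟨κ, hκ, T, ρ, hρ, hk⟩ := exists_finite_refine hE hY' _ (hg.pullback c)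
  refine ⟨κ, hκ, T, ρ, hρ, fun k => ?_⟩
  obtain ⟨hT, i, t, ht⟩ := hk k
  have e : ρ k ≫ c = (t ≫ pullback.fst (g i) c) ≫ g i := by
    rw [← ht, Category.assoc, Category.assoc, pullback.condition]
  refine isQC_of_iso (pullback.congrHom rfl e).symm ?_
  exact isQC_of_iso ((IsPullback.of_hasPullback (f' i) (t ≫ pullback.fst (g i) c)).paste_horiz
    (sq i)).isoPullback (h i (T k) _ hT)

end Groth.Agent.H15Site.TFin
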