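import Groth.Agent.H15Site.ToposFin.QC

/-!
# Quasi-separated morphisms and objects, coproducts
-/

set_option autoImplicit false

universe u w w'

open CategoryTheory CategoryTheory.Limits Opposite

namespace Groth.Agent.H15Site.TFin

open ToposFin

variable {C : Type u} [SmallCategory C] {J : GrothendieckTopology C}

/-- Precomposing with a monomorphism does not change pullbacks. -/
theorem isPullback_comp_mono {P X Y S T : Sh J} {a : P ⟶ X} {b : P ⟶ Y} {f : X ⟶ S} {g : Y ⟶ S}
    (h : IsPullback a b f g) (m : S ⟶ T) [Mono m] : IsPullback a b (f ≫ m) (g ≫ m) :=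
  IsPullback.of_isLimit' ⟨h.w_assoc m⟩ (PullbackCone.IsLimit.mk _
    (fun s => h.lift s.fst s.snd ((cancel_mono m).1 (by simpa [Category.assoc] using s.condition)))
    (fun s => h.lift_fst _ _ _) (fun s => h.lift_snd _ _ _)
    (fun s l h₁ h₂ => h.hom_ext (by rw [h.lift_fst]; exact h₁) (by rw [h.lift_snd]; exact h₂)))

theorem isQCHom_of_comp_mono {X Y Z : Sh J} (f : X ⟶ Y) (m : Y ⟶ Z) [Mono m]
    (h : IsQCHom (f ≫ m)) : IsQCHom f :=
  (isQCHom_iff f).2 fun _ _ _ _ _ sq hT => isQC_of_isPullback (isPullback_comp_mono sq m) h hT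

/-- The class of quasi-separated morphisms. -/
abbrev qs (J : GrothendieckTopology C) : MorphismProperty (Sh J) := (qc J).diagonal

theorem isQSHom_comp {X Y Z : Sh J} {f : X ⟶ Y} {g : Y ⟶ Z} (hf : IsQSHom f) (hg : IsQSHom g) :
    IsQSHom (f ≫ g) := (qs J).comp_mem f g hf hg

theorem isQSHom_of_mono {X Y : Sh J} (f : X ⟶ Y) [Mono f] : IsQSHom f := by
  haveI := (pullback.isIso_diagonal_iff f).2 inferInstance
  exact isQCHom_of_isIso _

theorem isQSHom_baseChange {P X Y S : Sh J} {a : P ⟶ X} {b : P ⟶ Y} {f : X ⟶ S} {g : Y ⟶ S}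
    (sq : IsPullback a b f g) (hf : IsQSHom f) : IsQSHom b :=
  MorphismProperty.of_isPullback (P := qs J) sq hf

theorem isQSHom_baseChange' {P X Y S : Sh J} {a : P ⟶ X} {b : P ⟶ Y} {f : X ⟶ S} {g : Y ⟶ S}
    (sq : IsPullback a b f g) (hg : IsQSHom g) : IsQSHom a :=
  MorphismProperty.of_isPullback (P := qs J) sq.flip hg

theorem isQSHom_of_comp {X Y Z : Sh J} (f : X ⟶ Y) (g : Y ⟶ Z) (h : IsQSHom (f ≫ g)) :
    IsQSHom f := by
  unfold IsQSHom at h ⊢
  rw [pullback.diagonal_comp f g] at h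
  exact isQCHom_of_comp_mono _ _ h

theorem isQCHom_of_comp {X Y Z : Sh J} (f : X ⟶ Y) (g : Y ⟶ Z) (hg : IsQSHom g)
    (h : IsQCHom (f ≫ g)) : IsQCHom f := by
  haveI : (qc J).HasOfPostcompProperty (qs J) :=
    MorphismProperty.hasOfPostcompProperty_iff_le_diagonal.2 le_rfl
  exact MorphismProperty.of_postcomp (W := qc J) (W' := qs J) f g hg h

theorem isQS_of_isQSHom {X Y : Sh J} (f : X ⟶ Y) (hf : IsQSHom f) (hY : IsQS Y) : IsQS X :=
  fun A B a b hA hB =>
    isQC_of_isPullback (pullback_map_diagonal_isPullback a b f) hf (hY A B (a ≫ f) (b ≫ f) hA hB)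

theorem isQS_of_mono {X Y : Sh J} (f : X ⟶ Y) [Mono f] (hY : IsQS Y) : IsQS X :=
  isQS_of_isQSHom f (isQSHom_of_mono f) hY

theorem isQS_of_iso {X Y : Sh J} (e : Y ≅ X) (hY : IsQS Y) : IsQS X := isQS_of_mono e.inv hY

theorem isCoherent_of_iso {X Y : Sh J} (e : Y ≅ X) (hY : IsCoherent Y) : IsCoherent X :=
  ⟨isQC_of_iso e hY.1, isQS_of_iso e hY.2⟩

/-- Pulling back jointly epimorphic families along the two projections of a fibre product. -/
theorem jEpi_pullbackMap {ι : Type w} {κ : Type w'} {X X' S : Sh J} {F : ι → Sh J} {G : κ → Sh J}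
    {π : ∀ i, F i ⟶ X} {ρ : ∀ k, G k ⟶ X'} (hπ : JEpi π) (hρ : JEpi ρ) (f : X ⟶ S) (f' : X' ⟶ S) :
    JEpi (fun p : ι × κ => pullback.map (π p.1 ≫ f) (ρ p.2 ≫ f') f f' (π p.1) (ρ p.2) (𝟙 S)
      (Category.comp_id _) (Category.comp_id _)) := by
  rw [jEpi_iff] at hπ hρ ⊢
  intro U z
  refine J.superset_covering ?_ (J.intersection_covering
    (hπ U ((pullback.fst f f').hom.app (op U) z)) (hρ U ((pullback.snd f f').hom.app (op U) z)))
  rintro V g ⟨⟨i, y, hy⟩, ⟨k, y', hy'⟩⟩
  have e : (π i ≫ f).hom.app (op V) y = (ρ k ≫ f').hom.app (op V) y' := by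
    have h1 := ConcreteCategory.congr_hom (congrArg (fun φ : pullback f f' ⟶ S => φ.hom.app (op V))
      (pullback.condition (f := f) (g := f'))) ((pullback f f').obj.map g.op z)
    refine (congrArg (f.hom.app (op V)) hy).trans ?_
    refine Eq.trans ?_ (congrArg (f'.hom.app (op V)) hy').symm
    rw [← app_map, ← app_map]
    exact h1
  obtain ⟨w, hw₁, hw₂⟩ := isPullback_elt (IsPullback.of_hasPullback (π i ≫ f) (ρ k ≫ f')) y y' e
  refine ⟨(i, k), w, isPullback_elt_ext (IsPullback.of_hasPullback f f') _ _ ?_ ?_⟩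
  · refine (ConcreteCategory.congr_hom (congrArg (fun φ : _ ⟶ X => φ.hom.app (op V))
      (pullback.lift_fst (f := f) (g := f') (pullback.fst (π i ≫ f) (ρ k ≫ f') ≫ π i)
        (pullback.snd (π i ≫ f) (ρ k ≫ f') ≫ ρ k) (by simp [pullback.condition]))) w).trans ?_
    refine (congrArg ((π i).hom.app (op V)) hw₁).trans (hy.trans ?_)
    rw [app_map]
  · refine (ConcreteCategory.congr_hom (congrArg (fun φ : _ ⟶ X' => φ.hom.app (op V))
      (pullback.lift_snd (f := f) (g := f') (pullback.fst (π i ≫ f) (ρ k ≫ f') ≫ π i)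
        (pullback.snd (π i ≫ f) (ρ k ≫ f') ≫ ρ k) (by simp [pullback.condition]))) w).trans ?_
    refine (congrArg ((ρ k).hom.app (op V)) hw₂).trans (hy'.trans ?_)
    rw [app_map]

/-- If every `X i ×_X X j ⟶ X i ×_Y X j` is quasi-compact, for a covering family of `X`, then
`X ⟶ Y` is quasi-separated. -/
theorem isQSHom_of_cover (hE : HasQCGenerators J) {X Y : Sh J} (f : X ⟶ Y) {ι : Type u}
    {Xi : ι → Sh J} {g : ∀ i, Xi i ⟶ X} (hg : JEpi g)
    (h : ∀ i j, IsQCHom (pullback.map (g i) (g j) (g i ≫ f) (g j ≫ f) (𝟙 _) (𝟙 _) f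
      (Category.id_comp _).symm (Category.id_comp _).symm)) : IsQSHom f :=
  isQCHom_of_jEpi hE (pullback.diagonal f) (jEpi_pullbackMap hg hg f f)
    (fun p => pullback_map_diagonal_isPullback (g p.1) (g p.2) f) (fun p => h p.1 p.2)

theorem isQSHom_of_cover_qs (hE : HasQCGenerators J) {X Y : Sh J} (f : X ⟶ Y) {ι : Type u}
    {Xi : ι → Sh J} {g : ∀ i, Xi i ⟶ X} (hg : JEpi g) (hqc : ∀ i, IsQC (Xi i))
    (hqs : ∀ i j, IsQS (pullback (g i ≫ f) (g j ≫ f))) (hX : IsQS X) : IsQSHom f :=
  isQSHom_of_cover hE f hg fun i j =>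
    isQCHom_of_isQC_isQS _ (hX _ _ (g i) (g j) (hqc i) (hqc j)) (hqs i j)

/-- Quasi-separatedness of a morphism descends along jointly epimorphic families. -/
theorem isQSHom_of_jEpi (hE : HasQCGenerators J) {X Y : Sh J} (f : X ⟶ Y) {ι : Type u}
    {Yi P : ι → Sh J} {g : ∀ i, Yi i ⟶ Y} (hg : JEpi g) {g' : ∀ i, P i ⟶ X} {f' : ∀ i, P i ⟶ Yi i}
    (sq : ∀ i, IsPullback (g' i) (f' i) f (g i)) (h : ∀ i, IsQSHom (f' i)) : IsQSHom f := by
  have hm₁ : ∀ i, pullback.map (f' i) (f' i) f f (g' i) (g' i) (g i) (sq i).w.symm (sq i).w.symm ≫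
      pullback.fst f f = pullback.fst (f' i) (f' i) ≫ g' i := fun i => pullback.lift_fst _ _ _
  have hm₂ : ∀ i, pullback.map (f' i) (f' i) f f (g' i) (g' i) (g i) (sq i).w.symm (sq i).w.symm ≫
      pullback.snd f f = pullback.snd (f' i) (f' i) ≫ g' i := fun i => pullback.lift_snd _ _ _
  refine isQCHom_of_jEpi hE (pullback.diagonal f)
    (g := fun i => pullback.map (f' i) (f' i) f f (g' i) (g' i) (g i) (sq i).w.symm (sq i).w.symm)
    ?_ (g' := g') (f' := fun i => pullback.diagonal (f' i)) (fun i => ?_) h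
  · refine (hg.pullback (pullback.fst f f ≫ f)).of_factor fun i => ⟨i, pullback.lift
      ((sq i).lift (pullback.snd (g i) _ ≫ pullback.fst f f) (pullback.fst (g i) _)
        (by rw [Category.assoc]; exact pullback.condition.symm))
      ((sq i).lift (pullback.snd (g i) _ ≫ pullback.snd f f) (pullback.fst (g i) _)
        (by rw [Category.assoc, ← pullback.condition (f := f)]; exact pullback.condition.symm))
      (by rw [IsPullback.lift_snd, IsPullback.lift_snd]), ?_⟩
    apply pullback.hom_ext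
    · simp only [Category.assoc]
      rw [hm₁]
      exact (pullback.lift_fst_assoc _ _ _ _).trans ((sq i).lift_fst _ _ _)
    · simp only [Category.assoc]
      rw [hm₂]
      exact (pullback.lift_snd_assoc _ _ _ _).trans ((sq i).lift_fst _ _ _)
  · refine IsPullback.of_isLimit' ⟨by apply pullback.hom_ext <;> simp [hm₁, hm₂]⟩
      (PullbackCone.IsLimit.mk _ (fun s => s.snd ≫ pullback.fst _ _) (fun s => ?_) (fun s => ?_)
        (fun s l h₁ h₂ => ?_))
    · have := congrArg (fun t => t ≫ pullback.fst f f) s.condition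
      simpa [hm₁] using this.symm
    · have e₁ := congrArg (fun t => t ≫ pullback.fst f f) s.condition
      have e₂ := congrArg (fun t => t ≫ pullback.snd f f) s.condition
      have e : s.snd ≫ pullback.fst (f' i) (f' i) = s.snd ≫ pullback.snd (f' i) (f' i) := by
        refine (sq i).hom_ext ?_ ?_
        · simp [hm₁, hm₂] at e₁ e₂ ⊢
          exact e₁.symm.trans e₂
        · simp [pullback.condition]
      apply pullback.hom_ext <;> simp [e]
    · have := congrArg (fun t => t ≫ pullback.fst (f' i) (f' i)) h₂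
      simpa using this

/-- An object covered by quasi-separated objects, through quasi-compact morphisms, is
quasi-separated. -/
theorem isQS_of_cover (hE : HasQCGenerators J) {Y : Sh J} {ι : Type u} {Yi : ι → Sh J}
    {g : ∀ i, Yi i ⟶ Y} (hg : JEpi g) (hqs : ∀ i, IsQS (Yi i)) (hqc : ∀ i, IsQCHom (g i)) :
    IsQS Y := by
  rw [isQS_iff]
  intro Z a hZ
  refine isQCHom_of_jEpi hE a hg (fun i => IsPullback.of_hasPullback a (g i)) fun i => ?_
  exact isQCHom_of_isQC_isQS _ (isQC_pullback_symm _ _ (hqc i Z a hZ)) (hqs i)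

/-- Quasi-separatedness is tested on a generating family of quasi-compact objects. -/
theorem isQS_of_gen {α : Type w} {G : α → Sh J} (hgen : Gen G) {Y : Sh J}
    (h : ∀ (a : α) (s : G a ⟶ Y), IsQCHom s) : IsQS Y := by
  rw [isQS_iff]
  intro Z c hZ
  refine isQCHom_of_cover c fun W d hW => ?_
  obtain ⟨ι, a, π, hπ⟩ := hgen W
  obtain ⟨s, hs⟩ := isQC_iff.1 hW _ _ π hπ
  exact ⟨s, inferInstance, _, _, hs, fun k => isQC_pullback_symm _ _ (h (a k.1) (π k.1 ≫ d) Z c hZ)⟩

theorem gen_hasQCGenerators {α : Type w} {G : α → Sh J} (hG : ∀ a, IsQC (G a)) (hgen : Gen G) :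
    HasQCGenerators J := fun X => by
  obtain ⟨ι, a, π, hπ⟩ := hgen X
  exact ⟨ι, fun i => G (a i), π, fun i => hG _, (jEpi_iff_epi π).1 hπ⟩

/-! ### Coproducts -/

variable {ι : Type u} {F : ι → Sh J} {c : Cofan F}

theorem isQC_pullback_inj (hc : IsColimit c) {T : Sh J} (hT : IsQC T) (g : T ⟶ c.pt) (i : ι) :
    IsQC (pullback (c.inj i) g) := by
  classical
  haveI := mono_inj hc i
  let π : ∀ j : {j // j ≠ i}, pullback (c.inj j.1) g ⟶ T := fun j => pullback.snd _ _
  refine isQC_of_summand hT (pullback.snd (c.inj i) g) π ?_ fun j => ?_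
  · refine ((jEpi_cofan hc).pullback g).of_factor fun j => ?_
    rcases eq_or_ne j i with rfl | hj
    · exact ⟨Sum.inl ⟨⟩, 𝟙 _, Category.id_comp _⟩
    · exact ⟨Sum.inr ⟨j, hj⟩, 𝟙 _, Category.id_comp _⟩
  · refine isInitial_of_cofan_sq hc j.2 (pullback.fst _ _ ≫ pullback.fst _ _)
      (pullback.snd _ _ ≫ pullback.fst _ _) ?_
    simp only [Category.assoc, pullback.condition, π]
    rw [← Category.assoc, pullback.condition, Category.assoc]

theorem isQC_summand (hc : IsColimit c) (h : IsQC c.pt) (i : ι) : IsQC (F i) :=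
  isQC_of_iso (IsPullback.of_id_fst (f := c.inj i)).isoPullback.symm
    (isQC_pullback_inj hc h (𝟙 c.pt) i)

theorem isQCHom_inj (hc : IsColimit c) (i : ι) : IsQCHom (c.inj i) :=
  fun _ g hT => isQC_pullback_inj hc hT g i

/-- A quasi-compact object over a coproduct lies over finitely many summands. -/
theorem exists_finite_inj (hc : IsColimit c) {T : Sh J} (hT : IsQC T) (g : T ⟶ c.pt) :
    ∃ s : Finset ι, JEpi (fun i : s => pullback.snd (c.inj i) g) :=
  isQC_iff.1 hT _ _ _ ((jEpi_cofan hc).pullback g)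

theorem isQS_cofan (hc : IsColimit c) (h : ∀ i, IsQS (F i)) : IsQS c.pt := by
  rw [isQS_iff]
  intro Z a hZ
  refine isQCHom_of_cover a fun W d hW => ?_
  obtain ⟨s, hs⟩ := exists_finite_inj hc hW d
  refine ⟨s, inferInstance, _, _, hs, fun i => ?_⟩
  refine isQC_of_iso (pullback.congrHom rfl pullback.condition) ?_
  refine isQC_of_iso ((IsPullback.of_hasPullback (pullback.snd a (c.inj i))
    (pullback.fst (c.inj i) d)).paste_horiz (IsPullback.of_hasPullback a (c.inj i))).isoPullback ?_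
  exact h i _ _ _ _ (isQC_pullback_symm _ _ (isQC_pullback_inj hc hZ a i))
    (isQC_pullback_inj hc hW d i)

theorem isQSHom_cofan (hc : IsColimit c) {Y : Sh J} (f : c.pt ⟶ Y)
    (h : ∀ i, IsQSHom (c.inj i ≫ f)) : IsQSHom f := by
  refine isQCHom_of_cover _ fun T d hT => ?_
  obtain ⟨s, hs⟩ := exists_finite_inj hc hT (d ≫ pullback.fst f f)
  choose t ht using fun i : s => exists_finite_inj hc
    (isQC_pullback_inj hc hT (d ≫ pullback.fst f f) i.1)
    (pullback.snd (c.inj i.1) (d ≫ pullback.fst f f) ≫ d ≫ pullback.snd f f)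
  refine ⟨Σ i : s, t i, inferInstance, _, _, hs.comp ht, fun ⟨⟨i, hi⟩, ⟨j, hj⟩⟩ => ?_⟩
  dsimp only
  have hQ : IsQC (pullback (c.inj j) (pullback.snd (c.inj i) (d ≫ pullback.fst f f) ≫
      d ≫ pullback.snd f f)) := isQC_pullback_inj hc (isQC_pullback_inj hc hT _ i) _ j
  set p := pullback.snd (c.inj j) (pullback.snd (c.inj i) (d ≫ pullback.fst f f) ≫
    d ≫ pullback.snd f f) with hp
  set e := (p ≫ pullback.snd (c.inj i) (d ≫ pullback.fst f f)) ≫ d with he
  have e₁ : e ≫ pullback.fst f f = (p ≫ pullback.fst _ _) ≫ c.inj i := by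
    simp only [he, Category.assoc, pullback.condition]
  have e₂ : e ≫ pullback.snd f f = pullback.fst _ _ ≫ c.inj j := by
    simp only [he, hp, Category.assoc]
    exact pullback.condition.symm
  rcases eq_or_ne i j with rfl | hij
  · let m := pullback.map (c.inj i) (c.inj i) (c.inj i ≫ f) (c.inj i ≫ f) (𝟙 _) (𝟙 _) f
      (Category.id_comp _).symm (Category.id_comp _).symm
    let w := pullback.lift (f := c.inj i ≫ f) (g := c.inj i ≫ f)
      (p ≫ pullback.fst _ _) (pullback.fst _ _) (by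
        exact (Category.assoc _ _ _).symm.trans ((congrArg (· ≫ f) e₁.symm).trans
          ((Category.assoc _ _ _).trans ((congrArg (e ≫ ·) pullback.condition).trans
          ((Category.assoc _ _ _).symm.trans ((congrArg (· ≫ f) e₂).trans (Category.assoc _ _ _)))))))
    have ew : w ≫ pullback.map (c.inj i ≫ f) (c.inj i ≫ f) f f (c.inj i) (c.inj i) (𝟙 Y)
        (Category.comp_id _) (Category.comp_id _) = e := by
      apply pullback.hom_ext
      · rw [Category.assoc, pullback.lift_fst]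
        exact (pullback.lift_fst_assoc _ _ _ _).trans e₁.symm
      · rw [Category.assoc, pullback.lift_snd]
        exact (pullback.lift_snd_assoc _ _ _ _).trans e₂.symm
    have hm : IsQCHom m := by
      haveI := mono_inj hc i
      haveI : IsIso (pullback.diagonal (c.inj i)) := (pullback.isIso_diagonal_iff _).2 inferInstance
      have hd : pullback.diagonal (c.inj i) ≫ m = pullback.diagonal (c.inj i ≫ f) := by
        apply pullback.hom_ext
        · rw [Category.assoc, pullback.lift_fst]; simp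
        · rw [Category.assoc, pullback.lift_snd]; simp
      have : m = inv (pullback.diagonal (c.inj i)) ≫ pullback.diagonal (c.inj i ≫ f) := by
        rw [← hd, IsIso.inv_hom_id_assoc]
      rw [this]
      exact isQCHom_comp (isQCHom_of_isIso _) (h i)
    refine isQC_of_iso (pullback.congrHom rfl ew) ?_
    exact isQC_of_iso ((IsPullback.of_hasPullback m w).paste_horiz
      (pullback_map_diagonal_isPullback (c.inj i) (c.inj i) f)).isoPullback (hm _ w hQ)
  · refine isQC_of_isInitial (X := pullback (pullback.diagonal f) e)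
      (isInitial_of_cofan_sq hc hij (pullback.snd _ e ≫ p ≫ pullback.fst _ _)
        (pullback.snd _ e ≫ pullback.fst _ _) ?_).some
    have k₁ : pullback.snd (pullback.diagonal f) e ≫ e ≫ pullback.fst f f =
        pullback.fst (pullback.diagonal f) e := by
      rw [← pullback.condition_assoc]; simp
    have k₂ : pullback.snd (pullback.diagonal f) e ≫ e ≫ pullback.snd f f =
        pullback.fst (pullback.diagonal f) e := by
      rw [← pullback.condition_assoc]; simp
    have k := k₁.trans k₂.symm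
    rw [e₁, e₂] at k
    simpa [Category.assoc] using k

end Groth.Agent.H15Site.TFin
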